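import Groth.Agent.EtDual.K337.P1
import Groth.Agent.EtpbcA.ArtinMain
import Groth.Agent.EtpbcA.T2Unit
import Groth.Agent.Etbc.H209.UnitPt
import Groth.Agent.S0073

/-!
# Affine vanishing over strictly henselian local principal ideal domains: the induction

`QA_all`: `KeyB ℓ → ∀ D, QA ℓ D`.
-/

set_option autoImplicit false
set_option linter.unusedSectionVars false
universe u
open CategoryTheory CategoryTheory.Limits AlgebraicGeometry Opposite IsLocalRing
open Groth.Agent Groth.Agent.EtpbcA Groth.Agent.EtpbcA.Artin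
open Groth.Agent.CycB.RelDim Groth.Agent.CycB.TrdegAlg

namespace K337.ArtA

open P1Charts

section field

theorem resTrdegLE_of_nrt {K : Type u} [Field K] {X : Scheme.{u}} (f : X ⟶ Spec (CommRingCat.of K))
    [LocallyOfFiniteType f] (x : X) (a : ℕ) (h : nrt f x ≤ a) : EtPBC.ResTrdegLE f x a := by
  obtain ⟨φ, hφ⟩ := exists_resMap f x
  rw [resTrdegLE_iff f x a φ hφ]
  have h1 : φ = (f.residueFieldMap x).hom.comp (evS (CommRingCat.of K) (f x)) := by
    apply resMap_unique
    rw [hφ, ← Scheme.Hom.SpecMap_residueFieldMap_fromSpecResidueField]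
    have h2 : (Spec (CommRingCat.of K)).fromSpecResidueField (f x) =
        Spec.map (CommRingCat.ofHom (evS (CommRingCat.of K) (f x))) := by
      have h3 := fromSpecResidueField_toSpecΓ (Spec (CommRingCat.of K)) (f x)
      have h4 : Spec.map (CommRingCat.ofHom (evS (CommRingCat.of K) (f x))) =
          Spec.map ((Spec (CommRingCat.of K)).evaluation ⊤ (f x) trivial) ≫
            Spec.map (Scheme.ΓSpecIso (CommRingCat.of K)).inv := (Spec.map_comp _ _)
      rw [h4, ← h3, Category.assoc]
      have h5 : (Spec (CommRingCat.of K)).toSpecΓ ≫ Spec.map (Scheme.ΓSpecIso (CommRingCat.of K)).inv = 𝟙 _ := by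
        rw [← SpecMap_ΓSpecIso_hom, ← Spec.map_comp, Iso.inv_hom_id, Spec.map_id]
      rw [h5, Category.comp_id]
    rw [h2, ← Spec.map_comp]
    rfl
  have hsurj : Function.Surjective (evS (CommRingCat.of K) (f x)) := by
    intro z
    obtain ⟨a, b, hb, hab⟩ := fracGen_evS (CommRingCat.of K) (f x) z
    have hb0 : (b : K) ≠ 0 := by
      rintro rfl
      exact hb (map_zero _)
    refine ⟨(a * b⁻¹ : K), ?_⟩
    have h6 : evS (CommRingCat.of K) (f x) ((b⁻¹ : K)) * evS (CommRingCat.of K) (f x) b = 1 := by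
      rw [← map_mul]
      exact (congrArg _ (inv_mul_cancel₀ hb0)).trans (map_one _)
    have h7 : evS (CommRingCat.of K) (f x) ((a * b⁻¹ : K)) = evS (CommRingCat.of K) (f x) a *
        evS (CommRingCat.of K) (f x) ((b⁻¹ : K)) := map_mul _ _ _
    rw [h7, ← hab, mul_assoc, mul_comm (evS (CommRingCat.of K) (f x) b), h6, mul_one]
  have h8 : (letI := φ.toAlgebra; Algebra.trdeg K (X.residueField x)) = rtd f x := by
    change trd φ = _
    rw [h1]
    exact trd_comp_surjective' _ _ hsurj
  rw [h8, ← natCast_nrt]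
  exact_mod_cast h

theorem QB_field {ℓ : ℕ} (hℓ : 0 < ℓ) (K : Type u) [Field K] [IsSepClosed K] (φ : Spec (CommRingCat.of K) → ℕ)
    (m : ℕ) : QB ℓ φ m := by
  intro X _ f _ F hF hs q hq
  refine QK_of_PK K 0 m (PK_of_PA m (PA_all m) K 0 (cohDimLE_of_isSepClosed K)) X f F
    (Groth.Agent.Etbc.H211.PrimTors.isTorsion_of_isPrimaryTorsion hℓ hF) (fun x hx => ?_) q (by omega)
  refine resTrdegLE_of_nrt f x m ?_
  have := hs x hx
  unfold dl at this
  omega

end field

section closed

theorem H_push_closed {X Y : Scheme.{u}} (i : X ⟶ Y) [IsFinite i] (F : EtCoh.Ab X) (n : ℕ) :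
    Subsingleton (EtCoh.H Y ((EtCoh.push i).obj F) n) ↔ Subsingleton (EtCoh.H X F n) :=
  CdExact.H_push_iff_of_isZero i F (fun q => Groth.Agent.S0071.result i F (q + 1) (by omega)) n

/-- The cokernel of the unit of a closed immersion vanishes. -/
theorem isZero_cokernel_unit {X Y : Scheme.{u}} (i : X ⟶ Y) [IsClosedImmersion i] (F : EtCoh.Ab Y) :
    IsZero (cokernel ((EtCoh.pullPushAdj i).unit.app F)) := by
  refine isZero_of_forall _ fun y hy => ?_
  by_cases h : y ∈ Set.range i
  · exact (Groth.Agent.Etbc.H209.UnitPt.not_mem_supp_cokernel i F h hy).elim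
  · exact h (SuppClosed.supp_push i _ (T2.supp_cokernel_subset _ hy))

theorem mem_supp_push_iff {X Y : Scheme.{u}} (i : X ⟶ Y) [IsClosedImmersion i] (G : EtCoh.Ab X) (x : X) :
    i x ∈ EtPBC.supp ((EtCoh.push i).obj G) ↔ x ∈ EtPBC.supp G := by
  obtain ⟨h1, h2⟩ := Groth.Agent.S0067.result i
  have h3 : IsIso (EtCoh.pullPushAdj i).counit := Adjunction.counit_isIso_of_R_fully_faithful _
  have e : (EtCoh.pull i).obj ((EtCoh.push i).obj G) ≅ G := asIso ((EtCoh.pullPushAdj i).counit.app G)
  rw [← supp_congr e, supp_pull]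
  rfl

end closed

section special

variable {ℓ : ℕ} (W : Type u) [CommRing W] [IsDomain W] [HenselianLocalRing W] [IsPrincipalIdealRing W]
  [IsSepClosed (ResidueField W)]

/-- The closed point of `Spec W`. -/
noncomputable abbrev sW : Spec (CommRingCat.of (ResidueField W)) ⟶ Spec (CommRingCat.of W) :=
  Spec.map (CommRingCat.ofHom (residue W))

theorem range_sW : Set.range (sW W) = {closedPoint W} := by
  apply Set.eq_singleton_iff_unique_mem.2
  constructor
  · refine ⟨closedPoint (ResidueField W), ?_⟩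
    apply PrimeSpectrum.ext
    change Ideal.comap (residue W) (maximalIdeal (ResidueField W)) = maximalIdeal W
    rw [IsLocalRing.isField_iff_maximalIdeal_eq.1 (Field.toIsField (ResidueField W)),
      ← RingHom.ker_eq_comap_bot, IsLocalRing.ker_residue]
  · rintro _ ⟨p, rfl⟩
    have h0 : p = closedPoint (ResidueField W) :=
      Subsingleton.elim (α := PrimeSpectrum (ResidueField W)) _ _
    rw [h0]
    apply PrimeSpectrum.ext
    change Ideal.comap (residue W) (maximalIdeal (ResidueField W)) = maximalIdeal W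
    rw [IsLocalRing.isField_iff_maximalIdeal_eq.1 (Field.toIsField (ResidueField W)),
      ← RingHom.ker_eq_comap_bot, IsLocalRing.ker_residue]

/-- The part of the cohomology supported on the special fibre. -/
theorem H_special (hℓ : 0 < ℓ) {X : Scheme.{u}} [IsAffine X] (f : X ⟶ Spec (CommRingCat.of W))
    [LocallyOfFiniteType f] (F : EtCoh.Ab X) (hF : _root_.Dix.IsPrimaryTorsion ℓ F) (n : ℕ)
    (hs : ∀ x ∈ EtPBC.supp F, dl (φc W) f x ≤ n) (q : ℕ) (hq : n < q) :
    Subsingleton (EtCoh.H X ((EtCoh.push (pullback.fst f (sW W))).obj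
      ((EtCoh.pull (pullback.fst f (sW W))).obj F)) q) := by
  have hcl : IsClosedImmersion (sW W) := IsClosedImmersion.spec_of_surjective _ IsLocalRing.residue_surjective
  rw [H_push_closed]
  have hlft : LocallyOfFiniteType (pullback.snd f (sW W)) := inferInstance
  refine QB_field hℓ (ResidueField W) (fun _ => 0) n (pullback f (sW W)) (pullback.snd f (sW W)) _
    (Groth.Agent.Etbc.H211.PrimTors.isPrimaryTorsion_pull ℓ _ F hF) (fun x hx => ?_) q hq
  rw [supp_pull] at hx
  have h1 := dl_tower (φc W) (fun _ => 0) (sW W) 0 (fun b => algAt_of_surjectiveOnStalks _ b)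
    (fun b => Nat.zero_le _) f (pullback.snd f (sW W)) (pullback.fst f (sW W)) pullback.condition x
    (algAt_of_surjectiveOnStalks _ _)
  exact h1.trans (hs _ hx)

end special

section step

variable {ℓ : ℕ} (W : Type u) [CommRing W] [IsDomain W] [HenselianLocalRing W] [IsPrincipalIdealRing W]
  [IsSepClosed (ResidueField W)]

/-- Affine vanishing on `Spec B` in dimension `≤ n`. -/
def SB (ℓ n : ℕ) (B : CommRingCat.{u}) (b : Spec B ⟶ Spec (CommRingCat.of W)) : Prop :=
  ∀ F : EtCoh.Ab (Spec B), _root_.Dix.IsPrimaryTorsion ℓ F → (∀ x ∈ EtPBC.supp F, dl (φc W) b x ≤ n) →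
    ∀ q, n < q → Subsingleton (EtCoh.H (Spec B) F q)

theorem SB_base (n : ℕ) : SB W ℓ n (CommRingCat.of W) (𝟙 _) := by
  intro F _ _ q hq
  exact Groth.Agent.S0073.result W F q (by omega)

theorem SB_step (hℓ : ℓ.Prime) (hu : IsUnit (ℓ : W)) (hW : ¬ IsField W) (hK : KeyB.{u} ℓ) (n : ℕ)
    (hQ : ∀ m, m < n → QA.{u} ℓ m) (B : CommRingCat.{u}) (b : Spec B ⟶ Spec (CommRingCat.of W))
    [LocallyOfFiniteType b] (hB : SB W ℓ n B b) :
    SB W ℓ n (CommRingCat.of (Polynomial B)) (pr B ≫ b) := by
  intro F hF hs q hq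
  have hlft : LocallyOfFiniteType (pr B) := locallyOfFiniteType_pr B
  have hcl : IsClosedImmersion (sW W) := IsClosedImmersion.spec_of_surjective _ IsLocalRing.residue_surjective
  let f : AA B ⟶ Spec (CommRingCat.of W) := pr B ≫ b
  let i : pullback f (sW W) ⟶ AA B := pullback.fst f (sW W)
  let η := (EtCoh.pullPushAdj i).unit.app F
  obtain ⟨r, rfl⟩ : ∃ r, q = r + 1 := ⟨q - 1, by omega⟩
  refine T2.H_subsingleton_of_hom η r ?_ ?_ ?_
  · -- the kernel
    let K := kernel η
    have hKt : _root_.Dix.IsPrimaryTorsion ℓ K :=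
      Groth.Agent.Etbc.H209.PrimFilt.isPrimaryTorsion_of_mono (kernel.ι η) hF
    have hKs : ∀ x ∈ EtPBC.supp K, dl (φc W) f x ≤ n := fun x hx => hs x (T2.supp_kernel_subset _ hx)
    have hKs0 : ∀ x ∈ EtPBC.supp K, f x ≠ closedPoint W := by
      intro x hx h
      have hxr : x ∈ Set.range i := by
        rw [Scheme.Pullback.range_fst, Set.mem_preimage, range_sW]
        exact h
      exact Groth.Agent.Etbc.H209.UnitPt.not_mem_supp_kernel i F hxr hx
    -- supports of the higher direct images
    have key : ∀ k, ∀ y ∈ EtPBC.supp ((EtCoh.Rpush (pr B) k).obj K), dl (φc W) b y + k ≤ n := by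
      intro k y hy
      by_contra hlt
      by_cases h0 : dl (φc W) b y = 0
      · have hby : b y = closedPoint W := by
          by_contra hne
          unfold dl at h0
          rw [φc_of_ne W _ hne] at h0
          omega
        exact not_mem_supp_Rpush_A1 hℓ W hu hW hK n hQ B b y hby K hKt hKs hKs0 k (by omega) hy
      · exact not_mem_supp_Rpush_of_dl W hu b (pr B) n (dl (φc W) b y) k (by omega) y le_rfl
          (fun m hm => hQ m (by omega)) K hKt hKs hy
    have main : ∀ p k, r + 1 ≤ p + k → Subsingleton (EtCoh.H (Spec B) ((EtCoh.Rpush (pr B) k).obj K) p) := by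
      intro p k hpk
      have htor := Groth.Agent.Etbc.H211.PrimTors.isPrimaryTorsion_Rpush ℓ (pr B) K hKt k
      by_cases hk : n < k
      · refine CdEtLeray.H_subsingleton_of_isZero (isZero_of_forall _ fun y hy => ?_) p
        have := key k y hy
        omega
      · rcases Nat.eq_zero_or_pos k with rfl | hk0
        · exact hB _ htor (fun y hy => by have := key 0 y hy; omega) p (by omega)
        · exact hQ (n - k) (by omega) W hu (Spec B) b _ htor
            (fun y hy => by have := key k y hy; omega) p (by omega)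
    refine CdEtLeray.H_subsingleton_of_leray (pr B) K (r + 1) ?_ fun p k hpk => main p (k + 1) (by omega)
    have hlim : PreservesFiniteLimits (EtCoh.push (pr B)) := by
      have h0 : PreservesLimitsOfSize.{0, 0} (EtCoh.push (pr B)) :=
        (EtCoh.pullPushAdj (pr B)).rightAdjoint_preservesLimits
      infer_instance
    have e0 : (EtCoh.Rpush (pr B) 0).obj K ≅ (EtCoh.push (pr B)).obj K :=
      ((EtCoh.push (pr B)).rightDerivedZeroIsoSelf).app K
    exact CdEtLeray.H_subsingleton_of_iso e0 (r + 1) (main (r + 1) 0 (by omega))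
  · exact CdEtLeray.H_subsingleton_of_isZero (isZero_cokernel_unit i F) r
  · exact H_special W hℓ.pos f F hF n hs (r + 1) hq

end step

end K337.ArtA
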