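import Groth.Agent.EtDual.K337.LemS

/-!
# Affine vanishing over a one-dimensional base

`QB_of_line`: affine vanishing over a base `B` of cohomological dimension `≤ 2` whose strict localizations are
strictly henselian local principal ideal domains.
-/

set_option autoImplicit false
universe u
open CategoryTheory CategoryTheory.Limits AlgebraicGeometry Opposite IsLocalRing
open Groth.Agent.EtpbcA Groth.Agent.EtpbcA.Artin

namespace K337.ArtA

/-- The strict localization of `B` at `b` is a local principal ideal domain along which the dimension function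
drops by `e`. -/
def LocPID {B : Scheme.{u}} (φB : B → ℕ) (b : B) (e : ℕ) : Prop :=
  ∃ (W : Type u) (_ : CommRing W) (_ : IsLocalRing W) (_ : Algebra (B.presheaf.stalk b) W)
      (_ : IsLocalHom (algebraMap (B.presheaf.stalk b) W))
      (_ : Hensel.IsStrictHenselization (B.presheaf.stalk b) W),
      IsDomain W ∧ IsPrincipalIdealRing W ∧ ∀ w, φc W w + e ≤ φB (Hens2.specOf B b W w)

theorem not_mem_supp_Rpush_line {ℓ : ℕ} {B : Scheme.{u}} (φB : B → ℕ) (hu : IsUnit (ℓ : Γ(B, ⊤))) (b : B) (e : ℕ)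
    (hb : LocPID φB b e) {X : Scheme.{u}} (f : X ⟶ B) [IsAffineHom f] [LocallyOfFiniteType f] (n q : ℕ)
    (hnq : n < q + e) (hQ : ∀ m, m + e ≤ n → QA.{u} ℓ m) (F : EtCoh.Ab X) (hF : _root_.Dix.IsPrimaryTorsion ℓ F)
    (hs : ∀ x ∈ EtPBC.supp F, dl φB f x ≤ n) :
    b ∉ EtPBC.supp ((EtCoh.Rpush f q).obj F) := by
  obtain ⟨W, i1, i2, i3, i4, i5, hWD, hWP, hφ⟩ := hb
  have hWh : HenselianLocalRing W := i5.henselian
  have hWs : IsSepClosed (ResidueField W) := i5.isSepClosure.sep_closed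
  have hWu : IsUnit (ℓ : W) := isUnit_natCast_of_ringHom
    ((algebraMap (B.presheaf.stalk b) W).comp (B.presheaf.germ ⊤ b trivial).hom) hu
  refine not_mem_supp_Rpush_of_strict (B := Spec (CommRingCat.of W)) φB (φc W) e n q f (𝟙 B) b W (𝟙 _)
    (fun w => ?_) (fun w => ?_)
    (pullback.fst (f ≫ 𝟙 B) (Hens2.specOf _ b W)) (pullback.snd (f ≫ 𝟙 B) (Hens2.specOf _ b W))
    ?_ ?_ b rfl F hF ?_ ?_ hnq
  · rw [Category.id_comp]
    exact algAt_specOf _ _ _ _
  · rw [Category.id_comp]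
    exact hφ w
  · rw [Category.comp_id]
    exact IsPullback.of_hasPullback _ _
  · rw [Category.id_comp]
    exact IsPullback.of_hasPullback _ _
  · intro x hx
    rw [Category.comp_id]
    exact hs x hx
  · intro hle
    exact hQ _ (by omega) W hWu

/-- Affine vanishing over a one-dimensional base. -/
theorem QB_of_line {ℓ : ℕ} {B : Scheme.{u}} [IsAffine B] (φB : B → ℕ) (hu : IsUnit (ℓ : Γ(B, ⊤))) (Z : Set B)
    (h1 : ∀ b, LocPID φB b 1) (h2 : ∀ b, b ∉ Z → LocPID φB b 2)
    (h3 : ∀ G : EtCoh.Ab B, _root_.Dix.IsPrimaryTorsion ℓ G → EtPBC.supp G ⊆ Z → ∀ p, 2 ≤ p →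
      Subsingleton (EtCoh.H B G p))
    (h4 : _root_.Dix.CohDimLEAt B ℓ 2) (n : ℕ) (hQ : ∀ m, m < n → QA.{u} ℓ m) : QB ℓ φB n := by
  intro X _ f _ F hF hs q hq
  have key1 : ∀ r, n ≤ r → ∀ b, b ∉ EtPBC.supp ((EtCoh.Rpush f r).obj F) := fun r hr b =>
    not_mem_supp_Rpush_line φB hu b 1 (h1 b) f n r (by omega) (fun m hm => hQ m (by omega)) F hF hs
  have key2 : ∀ r, n ≤ r + 1 → ∀ b, b ∈ EtPBC.supp ((EtCoh.Rpush f r).obj F) → b ∈ Z := by
    intro r hr b hb
    by_contra hbZ
    exact not_mem_supp_Rpush_line φB hu b 2 (h2 b hbZ) f n r (by omega) (fun m hm => hQ m (by omega)) F hF hs hb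
  have main : ∀ p r, q ≤ p + r → Subsingleton (EtCoh.H B ((EtCoh.Rpush f r).obj F) p) := by
    intro p r hpr
    by_cases hr : n ≤ r
    · exact CdEtLeray.H_subsingleton_of_isZero (isZero_of_forall _ fun b => key1 r hr b) p
    · by_cases hr2 : n ≤ r + 1
      · exact h3 _ (Groth.Agent.Etbc.H211.PrimTors.isPrimaryTorsion_Rpush ℓ f F hF r)
          (fun b hb => key2 r hr2 b hb) p (by omega)
      · exact h4 _ (Groth.Agent.Etbc.H211.PrimTors.isPrimaryTorsion_Rpush ℓ f F hF r) p (by omega)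
  refine CdEtLeray.H_subsingleton_of_leray f F q ?_ fun p r hpr => main p (r + 1) (by omega)
  have hlim : PreservesFiniteLimits (EtCoh.push f) := by
    have h0 : PreservesLimitsOfSize.{0, 0} (EtCoh.push f) := (EtCoh.pullPushAdj f).rightAdjoint_preservesLimits
    infer_instance
  have e0 : (EtCoh.Rpush f 0).obj F ≅ (EtCoh.push f).obj F := ((EtCoh.push f).rightDerivedZeroIsoSelf).app F
  exact CdEtLeray.H_subsingleton_of_iso e0 q (main q 0 (by omega))

end K337.ArtA
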