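import Groth.Agent.EtDual.K337.StrictA
import Groth.Agent.Ega43.DedekindOpen
import Groth.Agent.HLoc2.K775.Tors
import Groth.Agent.Etbc.H220.RelCdField

/-!
# Affine vanishing of arithmetic type

`S` has regular local rings of dimension at most one, `T → S` is locally of finite type, `O` is a strict henselization of a local
ring of `T`: the affine opens of `Spec O` have `cd_ℓ ≤ dim O` for `ℓ` invertible (given `KeyB ℓ`).
-/

set_option autoImplicit false
set_option linter.unusedSectionVars false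
universe u
open CategoryTheory CategoryTheory.Limits AlgebraicGeometry Opposite IsLocalRing
open Groth.Agent.EtpbcA Groth.Agent.EtpbcA.Artin
open Groth.Agent.Etrest.StrictLoc Groth.Agent.EtpbcB
open Groth.Agent.EtpbcB.StrictLoc Groth.Agent.EtpbcB.OshHens
open Groth.Agent.Etbc.H216.StrictLocEt Groth.Agent.Etbc.H216.StrictLocVan Groth.Agent.Etbc.H216.AffOpen

namespace K337.ArtA

/-- A strict localization of `Y` factoring through a monomorphism `U ⟶ Y` is a strict localization of `U`. -/
theorem isStrictLoc_of_mono {U Y : Scheme.{u}} (π : U ⟶ Y) [Mono π] {R : Type u}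
    [CommRing R] [IsLocalRing R] (p : Spec (CommRingCat.of R) ⟶ U) (h : IsStrictLoc (p ≫ π)) :
    IsStrictLoc p where
  henselian := h.henselian
  sepClosed := h.sepClosed
  sep := by
    obtain ⟨y, i, hi, hs⟩ := h.sep
    obtain ⟨j', hj'⟩ := exists_residueField_hom (resPt R ≫ p) _ rfl
    refine ⟨_, j', hj', ?_⟩
    generalize hu : (resPt R ≫ p) (closedPoint (ResidueField R)) = u at j' hj'
    have hy : π u = y := by
      have h1 := point_eq (a := 𝟙 _) (hi.trans (Category.id_comp _).symm)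
      rw [← h1, ← hu]
      rfl
    subst hy
    have h2 : i = j'.comp (π.residueFieldMap u).hom := by
      have h3 : spm i = spm (j'.comp (π.residueFieldMap u).hom) := by
        rw [← cancel_mono (Y.fromSpecResidueField (π u))]
        refine hi.trans ?_
        rw [spm_comp, Category.assoc]
        have h4 : spm (π.residueFieldMap u).hom ≫ Y.fromSpecResidueField (π u) =
            U.fromSpecResidueField u ≫ π :=
          Scheme.Hom.SpecMap_residueFieldMap_fromSpecResidueField π u
        rw [h4, ← Category.assoc, ← Category.assoc]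
        exact congrArg (· ≫ π) hj'.symm
      exact spm_inj.1 h3
    rw [h2] at hs
    exact SepAlg.of_comp hs
  universal := by
    intro T _ _ t τ hτ
    obtain ⟨g, ⟨hg1, hg2⟩, hg3⟩ := h.universal T (t ≫ π) τ (by
      rw [← Category.assoc (resPt R), ← Category.assoc, ← Category.assoc (spm τ)] at *
      rw [hτ, Category.assoc])
    refine ⟨g, ⟨?_, hg2⟩, ?_⟩
    · rw [← cancel_mono π, Category.assoc]; exact hg1
    · rintro g' ⟨h1, h2⟩
      exact hg3 g' ⟨by rw [← Category.assoc, h1], h2⟩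

variable {ℓ : ℕ}

/-- `cd_ℓ(U) ≤ dim R` for an affine open `U` of a strict localization `Spec R ⟶ Y`, `Y` locally of finite type over a
local principal ideal domain. -/
theorem cohDimLEAt_affineOpen_of_isStrictLoc (hℓ : ℓ.Prime) (hK : KeyB.{u} ℓ) (V : Type u) [CommRing V] [IsDomain V]
    [IsLocalRing V] [IsPrincipalIdealRing V] (hu : IsUnit (ℓ : V)) {Y : Scheme.{u}}
    (g : Y ⟶ Spec (CommRingCat.of V)) [LocallyOfFiniteType g]
    {R : Type u} [CommRing R] [IsLocalRing R] (p : Spec (CommRingCat.of R) ⟶ Y) (hp : IsStrictLoc p)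
    (d : ℕ) (hd : ringKrullDim R ≤ d) (U : (Spec (CommRingCat.of R)).Opens) (hU : IsAffineOpen U) :
    _root_.Dix.CohDimLEAt (U : Scheme.{u}) ℓ d := by
  obtain ⟨_, _, _, he⟩ := exists_strictHens p hp
  exact cohDimLEAt_affineOpen hℓ hK V hu g (p (closedPoint R)) R d hd U hU

/-- **Affine vanishing of arithmetic type.** -/
theorem cohDimLEAt_of_base (hℓ : ℓ.Prime) (hK : KeyB.{u} ℓ) {S T : Scheme.{u}} (g : T ⟶ S) [LocallyOfFiniteType g]
    (t : T) (hreg : IsRegularLocalRing (S.presheaf.stalk (g t)))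
    (hdim : ringKrullDim (S.presheaf.stalk (g t)) ≤ 1) (hu : IsUnit (ℓ : S.presheaf.stalk (g t)))
    (O : Type u) [CommRing O] [IsLocalRing O] [Algebra (T.presheaf.stalk t) O]
    [IsLocalHom (algebraMap (T.presheaf.stalk t) O)] [Hensel.IsStrictHenselization (T.presheaf.stalk t) O]
    (d : ℕ) (hd : ringKrullDim O ≤ d) (U : (Spec (CommRingCat.of O)).Opens) (hU : IsAffineOpen U) :
    _root_.Dix.CohDimLEAt (U : Scheme.{u}) ℓ d := by
  obtain ⟨h1, h2⟩ :=
    Groth.Agent.Ega43.DedekindOpen.isDomain_isPrincipalIdealRing_of_regular_dim_le_one (S.presheaf.stalk (g t)) hdim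
  let V : Type u := S.presheaf.stalk (g t)
  let σ : Spec (CommRingCat.of V) ⟶ S := S.fromSpecStalk (g t)
  let c : Spec (CommRingCat.of O) ⟶ Spec (CommRingCat.of V) :=
    Spec.map (CommRingCat.ofHom (algebraMap (T.presheaf.stalk t) O)) ≫ Spec.map (g.stalkMap t)
  have hw : Hens2.specOf T t O ≫ g = c ≫ σ := by
    change (Spec.map (CommRingCat.ofHom (algebraMap (T.presheaf.stalk t) O)) ≫ T.fromSpecStalk t) ≫ g = _
    rw [Category.assoc, Category.assoc]
    congr 1
    exact (Scheme.SpecMap_stalkMap_fromSpecStalk g).symm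
  let p : Spec (CommRingCat.of O) ⟶ pullback g σ := pullback.lift (Hens2.specOf T t O) c hw
  have hm : Mono σ := inferInstance
  have hp : IsStrictLoc p := by
    refine isStrictLoc_of_mono (pullback.fst g σ) p ?_
    have h3 : p ≫ pullback.fst g σ = Hens2.specOf T t O := pullback.lift_fst _ _ _
    rw [h3]
    exact isStrictLoc_specOf T t O
  exact cohDimLEAt_affineOpen_of_isStrictLoc hℓ hK V hu (pullback.snd g σ) p hp d hd U hU

/-- Sheaves killed by a positive integer, from the primes dividing it. -/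
theorem subsingleton_of_killedBy {X : Scheme.{u}} {d : ℕ} (n : ℕ)
    (h : ∀ ℓ : ℕ, ℓ.Prime → ℓ ∣ n → _root_.Dix.CohDimLEAt X ℓ d)
    (hn : n ≠ 0) (F : EtCoh.Ab X) (hF : EtCoh.KilledBy n F) (q : ℕ) (hq : d < q) :
    Subsingleton (EtCoh.H X F q) := by
  induction n using induction_on_primes generalizing F with
  | zero => exact absurd rfl hn
  | one =>
    rw [Groth.Agent.Sga5.EtKilled.killedBy_iff, one_smul] at hF
    refine subsingleton_of_forall_eq 0 fun x => ?_
    rw [← Abelian.Ext.comp_mk₀_id x, hF, Abelian.Ext.mk₀_zero, Abelian.Ext.comp_zero]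
  | prime_mul p a hp ih =>
    obtain ⟨S, hS, rfl, h1, h3⟩ := K775.Tors.exists_ext p a hF
    exact K775.Tors.H_mid hS q (h p hp (dvd_mul_right p a) _ (K775.Tors.isPrimaryTorsion_of_killedBy h1) q hq)
      (ih (fun ℓ hℓ hd => h ℓ hℓ (hd.trans (dvd_mul_left a p))) (fun h => hn (by rw [h, mul_zero])) _ h3)

/-- The cohomology of `Spec O[1/f]` for the sheaves killed by `n`. -/
theorem subsingleton_H_away {n : ℕ} (hn0 : 0 < n) (hK : ∀ ℓ : ℕ, ℓ.Prime → ℓ ∣ n → KeyB.{u} ℓ)
    {S T : Scheme.{u}} (g : T ⟶ S) [LocallyOfFiniteType g]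
    (t : T) (hreg : IsRegularLocalRing (S.presheaf.stalk (g t)))
    (hdim : ringKrullDim (S.presheaf.stalk (g t)) ≤ 1) (hn : IsUnit (n : Γ(S, ⊤)))
    (O : Type u) [CommRing O] [IsLocalRing O] [Algebra (T.presheaf.stalk t) O]
    [IsLocalHom (algebraMap (T.presheaf.stalk t) O)] [Hensel.IsStrictHenselization (T.presheaf.stalk t) O]
    (d : ℕ) (hd : ringKrullDim O ≤ d) (f : O)
    (F : EtCoh.Ab (Spec (CommRingCat.of (Localization.Away f)))) (hF : EtCoh.KilledBy n F) (q : ℕ) (hq : d < q) :
    Subsingleton (EtCoh.H (Spec (CommRingCat.of (Localization.Away f))) F q) := by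
  refine subsingleton_of_killedBy n (fun ℓ hℓ hd' => ?_) hn0.ne' F hF q hq
  let j : Spec (CommRingCat.of (Localization.Away f)) ⟶ Spec (CommRingCat.of O) :=
    Spec.map (CommRingCat.ofHom (algebraMap O (Localization.Away f)))
  have hj : IsOpenImmersion j :=
    inferInstanceAs (IsOpenImmersion (Spec.map (CommRingCat.ofHom (algebraMap O (Localization.Away f)))))
  have hU : IsAffineOpen j.opensRange := isAffineOpen_opensRange j
  have hu : IsUnit (ℓ : S.presheaf.stalk (g t)) := by
    obtain ⟨m, rfl⟩ := hd'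
    have h1 := isUnit_natCast_of_ringHom (S.presheaf.germ ⊤ (g t) trivial).hom hn
    rw [Nat.cast_mul] at h1
    exact isUnit_of_mul_isUnit_left h1
  exact Groth.Agent.Etbc.H212.CdAt.cohDimLEAt_of_iso j.isoOpensRange.symm d
    (cohDimLEAt_of_base hℓ (hK ℓ hℓ hd') g t hreg hdim hu O d hd j.opensRange hU)

/-- `H^q(Spec O[1/f], ℤ/n) = 0` for `q > dim O` (the form of S18143). -/
theorem subsingleton_H_away_const {n : ℕ} (hn0 : 0 < n) (hK : ∀ ℓ : ℕ, ℓ.Prime → ℓ ∣ n → KeyB.{u} ℓ)
    {S T : Scheme.{u}} (hSreg : ∀ s : S, IsRegularLocalRing (S.presheaf.stalk s))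
    (hSdim : ∀ s : S, ringKrullDim (S.presheaf.stalk s) ≤ 1) (hn : IsUnit (n : Γ(S, ⊤)))
    (g : T ⟶ S) [LocallyOfFiniteType g] (t : T)
    (O : Type u) [CommRing O] [IsLocalRing O] [Algebra (T.presheaf.stalk t) O]
    [IsLocalHom (algebraMap (T.presheaf.stalk t) O)] [Hensel.IsStrictHenselization (T.presheaf.stalk t) O]
    (d : ℕ) (hd : ringKrullDim O ≤ d) (f : O) (q : ℕ) (hq : d < q) :
    Subsingleton (EtCoh.H (Spec (CommRingCat.of (Localization.Away f)))
      (EtCoh.const (Spec (CommRingCat.of (Localization.Away f))) (ZMod n)) q) :=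
  subsingleton_H_away hn0 hK g t (hSreg _) (hSdim _) hn O d hd f _
    (Groth.Agent.Etbc.H220.RelCdField.killedBy_const n) q hq

end K337.ArtA
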