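import Groth.Agent.EtDual.K337.Dl
import Groth.Agent.Etbc.H208.PolyLoc

/-!
# Coordinates over a principal ideal domain and strict localizations of affine space

* `rtd_specMap`: transcendence degrees for maps of affine schemes;
* `exists_coord`: for `Y` affine of finite type over `V` and `y : Y` over `v`, there is `T : Y ⟶ Spec V[X]` over `V`
  sending `y` to the generic point of the fibre over `v`, the number of variables being the transcendence degree;
* `exists_strictLocal`: the strict localization of `Spec V[X]` at the generic point of the fibre over `v` is a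
  strictly henselian local principal ideal domain.
-/

set_option autoImplicit false
universe u
open CategoryTheory CategoryTheory.Limits AlgebraicGeometry Opposite IsLocalRing
open Groth.Agent.CycB.RelDim Groth.Agent.CycB.TrdegAlg
open Groth.Agent.EtpbcA.Artin

namespace K337.ArtA

section specMap

/-- The evaluation `R → κ(t)`. -/
noncomputable def evS (R : CommRingCat.{u}) (t : Spec R) : R →+* (Spec R).residueField t :=
  ((Scheme.ΓSpecIso R).inv ≫ (Spec R).evaluation ⊤ t trivial).hom

theorem fracGen_evS (R : CommRingCat.{u}) (t : Spec R) : FracGen (evS R t) := by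
  have h1 : FracGen ((Spec R).evaluation ⊤ t trivial).hom := fracGen_evaluation (isAffineOpen_top _) t trivial
  exact fracGen_precomp _ (ConcreteCategory.bijective_of_isIso (Scheme.ΓSpecIso R).inv).2 h1

theorem ker_evS (R : CommRingCat.{u}) (t : Spec R) : t.asIdeal = RingHom.ker (evS R t) := by
  ext r
  rw [RingHom.mem_ker]
  have h1 : evS R t r = 0 ↔ ¬ t ∈ (Spec R).basicOpen ((Scheme.ΓSpecIso R).inv r) := by
    rw [← Scheme.evaluation_ne_zero_iff_mem_basicOpen (Spec R) (U := ⊤) t trivial, not_not]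
    rfl
  rw [h1, basicOpen_eq_of_affine]
  exact not_not.symm

theorem evS_comm {A R : CommRingCat.{u}} (φ : A ⟶ R) (t : Spec R) :
    ((Spec.map φ).residueFieldMap t).hom.comp (evS A (Spec.map φ t)) = (evS R t).comp φ.hom := by
  have h1 : φ ≫ (Scheme.ΓSpecIso R).inv ≫ (Spec R).evaluation ⊤ t trivial =
        ((Scheme.ΓSpecIso A).inv ≫ (Spec A).evaluation ⊤ (Spec.map φ t) trivial) ≫
          (Spec.map φ).residueFieldMap t := by
    have h2 := Scheme.evaluation_naturality (Spec.map φ) t (V := ⊤) trivial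
    have h3 := Scheme.ΓSpecIso_inv_naturality φ
    refine ((Category.assoc _ _ _).symm.trans (congrArg (· ≫ (Spec R).evaluation ⊤ t trivial) h3)).trans ?_
    refine (Category.assoc _ _ _).trans (Eq.trans ?_ (Category.assoc _ _ _).symm)
    exact congrArg ((Scheme.ΓSpecIso A).inv ≫ ·) h2.symm
  exact (congrArg CommRingCat.Hom.hom h1).symm

theorem rtd_specMap {A R : CommRingCat.{u}} (φ : A ⟶ R) (t : Spec R) (p : Ideal A)
    (hp : p = (Spec.map φ t).asIdeal) (h : p ≤ t.asIdeal.comap φ.hom) :
    rtd (Spec.map φ) t = trd (Ideal.quotientMap t.asIdeal φ.hom h) :=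
  trd_eq_trd_quotientMap φ.hom (evS A (Spec.map φ t)) (evS R t) ((Spec.map φ).residueFieldMap t).hom
    (evS_comm φ t) (fracGen_evS A _) (fracGen_evS R t) p (hp.trans (ker_evS A _)) t.asIdeal (ker_evS R t) h

end specMap

section coord

variable (V : Type u) [CommRing V]

/-- The structure morphism of affine space. -/
noncomputable abbrev str (ι : Type u) : Spec (CommRingCat.of (MvPolynomial ι V)) ⟶ Spec (CommRingCat.of V) :=
  Spec.map (CommRingCat.ofHom (MvPolynomial.C : V →+* MvPolynomial ι V))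

instance locallyOfFiniteType_str (ι : Type u) [Finite ι] : LocallyOfFiniteType (str V ι) := by
  rw [HasRingHomProperty.Spec_iff (P := @LocallyOfFiniteType)]
  change (algebraMap V (MvPolynomial ι V)).FiniteType
  rw [RingHom.finiteType_algebraMap]
  infer_instance

theorem nrt_str (ι : Type u) [Finite ι] (v : Spec (CommRingCat.of V))
    (Q : Spec (CommRingCat.of (MvPolynomial ι V)))
    (hQ : Q.asIdeal = v.asIdeal.map (MvPolynomial.C : V →+* MvPolynomial ι V)) :
    str V ι Q = v ∧ nrt (str V ι) Q = Nat.card ι := by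
  have hv : v.asIdeal = (str V ι Q).asIdeal := by
    change v.asIdeal = Ideal.comap (MvPolynomial.C : V →+* MvPolynomial ι V) Q.asIdeal
    rw [hQ]
    apply le_antisymm Ideal.le_comap_map
    intro a ha
    rw [Ideal.mem_comap, MvPolynomial.mem_map_C_iff] at ha
    have := ha 0
    simpa using this
  refine ⟨(PrimeSpectrum.ext hv).symm, ?_⟩
  have hle : v.asIdeal ≤ Q.asIdeal.comap (CommRingCat.ofHom (MvPolynomial.C : V →+* MvPolynomial ι V)).hom := by
    rw [hQ]; exact Ideal.le_comap_map
  unfold nrt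
  rw [rtd_specMap _ Q v.asIdeal hv hle]
  have hvp : v.asIdeal.IsPrime := v.2
  let e : MvPolynomial ι (V ⧸ v.asIdeal) ≃+* (MvPolynomial ι V ⧸ Q.asIdeal) :=
    (MvPolynomial.quotientEquivQuotientMvPolynomial (σ := ι) v.asIdeal).toRingEquiv.trans
      (Ideal.quotEquivOfEq hQ.symm)
  have he : (e : MvPolynomial ι (V ⧸ v.asIdeal) →+* _).comp MvPolynomial.C =
      Ideal.quotientMap Q.asIdeal (CommRingCat.ofHom (MvPolynomial.C : V →+* MvPolynomial ι V)).hom hle := by
    apply Ideal.Quotient.ringHom_ext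
    ext a
    change (Ideal.quotEquivOfEq hQ.symm) ((MvPolynomial.quotientEquivQuotientMvPolynomial (σ := ι) v.asIdeal)
      (MvPolynomial.C (Ideal.Quotient.mk _ a))) = Ideal.Quotient.mk Q.asIdeal (MvPolynomial.C a)
    have h7 := (MvPolynomial.quotientEquivQuotientMvPolynomial (σ := ι) v.asIdeal).commutes a
    have h8 : (MvPolynomial.quotientEquivQuotientMvPolynomial (σ := ι) v.asIdeal)
      (MvPolynomial.C (Ideal.Quotient.mk _ a)) = Ideal.Quotient.mk _ (MvPolynomial.C a) := h7
    rw [h8]
    rfl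
  have h1 : trd (Ideal.quotientMap Q.asIdeal (CommRingCat.ofHom (MvPolynomial.C : V →+* MvPolynomial ι V)).hom hle)
      = trd (MvPolynomial.C : (V ⧸ v.asIdeal) →+* MvPolynomial ι (V ⧸ v.asIdeal)) := by
    rw [← he]
    have hQp : Q.asIdeal.IsPrime := Q.2
    have h5 : trd e.toRingHom = 0 := trd_eq_zero_of_surjective e.toRingHom e.injective e.surjective
    have h6 := trd_comp' (MvPolynomial.C : (V ⧸ v.asIdeal) →+* MvPolynomial ι (V ⧸ v.asIdeal)) e.toRingHom
      (MvPolynomial.C_injective ι _) e.injective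
    rw [h5, add_zero] at h6
    exact h6
  rw [h1]
  have h2 : trd (MvPolynomial.C : (V ⧸ v.asIdeal) →+* MvPolynomial ι (V ⧸ v.asIdeal)) = Cardinal.mk ι := by
    have h3 := trd_algebraMap (K := V ⧸ v.asIdeal) (L := MvPolynomial ι (V ⧸ v.asIdeal))
    rw [MvPolynomial.trdeg_of_isDomain] at h3
    simpa using h3
  rw [h2]
  rfl

variable {V}

theorem exists_coord {Y : Scheme.{u}} [IsAffine Y] (aY : Y ⟶ Spec (CommRingCat.of V)) [LocallyOfFiniteType aY]
    (y : Y) :
    ∃ (ι : Type u) (_ : Finite ι) (T : Y ⟶ Spec (CommRingCat.of (MvPolynomial ι V))), T ≫ str V ι = aY ∧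
      (T y).asIdeal = (aY y).asIdeal.map (MvPolynomial.C : V →+* MvPolynomial ι V) ∧
      nrt aY y = Nat.card ι := by
  let g : V →+* Γ(Y, ⊤) := (Spec.preimage (Y.isoSpec.inv ≫ aY)).hom
  have hg0 : Spec.map (CommRingCat.ofHom g) = Y.isoSpec.inv ≫ aY := by
    rw [CommRingCat.ofHom_hom, Spec.map_preimage]
  have hg : Y.toSpecΓ ≫ Spec.map (CommRingCat.ofHom g) = aY := by
    rw [hg0, ← Category.assoc, Scheme.toSpecΓ_isoSpec_inv, Category.id_comp]
  have hft : g.FiniteType := by
    have h1 : LocallyOfFiniteType (Spec.map (CommRingCat.ofHom g)) := by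
      rw [hg0]; infer_instance
    exact (HasRingHomProperty.Spec_iff (P := @LocallyOfFiniteType)).1 h1
  let _ : Algebra V Γ(Y, ⊤) := g.toAlgebra
  have : Algebra.FiniteType V Γ(Y, ⊤) := hft
  let q : Ideal Γ(Y, ⊤) := (Y.toSpecΓ y).asIdeal
  have hq : q.IsPrime := (Y.toSpecΓ y).2
  obtain ⟨ι, hι, θ, hθ, hc⟩ := Groth.Agent.Etbc.H208.PolyLoc.exists_poly V Γ(Y, ⊤) q
  have hay : (aY y).asIdeal = q.under V := by
    rw [← hg]; rfl
  refine ⟨ι, hι, Y.toSpecΓ ≫ Spec.map (CommRingCat.ofHom θ.toRingHom), ?_, ?_, ?_⟩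
  · rw [Category.assoc, ← Spec.map_comp]
    have : CommRingCat.ofHom (MvPolynomial.C : V →+* MvPolynomial ι V) ≫ CommRingCat.ofHom θ.toRingHom =
        CommRingCat.ofHom g := by
      ext r
      exact θ.commutes r
    rw [this, hg]
  · rw [hay, ← hθ]
    rfl
  · have h1 : nrt aY y = nrt (Spec.map (CommRingCat.ofHom g)) (Y.toSpecΓ y) := by
      rw [← nrt_comp_of_algAt_left _ _ _ (algAt_of_surjectiveOnStalks Y.toSpecΓ y), hg]
    rw [h1]
    unfold nrt
    rw [rtd_specMap (CommRingCat.ofHom g) (Y.toSpecΓ y) (q.under V) rfl le_rfl]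
    have h2 : trd (algebraMap (V ⧸ q.under V) (Γ(Y, ⊤) ⧸ q)) = Cardinal.mk ι := by
      rw [trd_algebraMap, hc]
    exact congrArg Cardinal.toNat h2

/-- The dimension of the closure of a point of the spectrum of a local ring of dimension at most one. -/
noncomputable def φc (W : Type u) [CommRing W] [IsLocalRing W] (w : Spec (CommRingCat.of W)) : ℕ :=
  letI := Classical.propDecidable
  if w = closedPoint W then 0 else 1

theorem φc_closedPoint (W : Type u) [CommRing W] [IsLocalRing W] : φc W (closedPoint W) = 0 := by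
  unfold φc
  rw [if_pos rfl]

theorem φc_of_ne (W : Type u) [CommRing W] [IsLocalRing W] (w : Spec (CommRingCat.of W))
    (h : w ≠ closedPoint W) : φc W w = 1 := by
  unfold φc
  rw [if_neg h]

theorem φc_le_one (W : Type u) [CommRing W] [IsLocalRing W] (w : Spec (CommRingCat.of W)) : φc W w ≤ 1 := by
  unfold φc
  split_ifs <;> omega

theorem asIdeal_eq_bot_of_ne (W : Type u) [CommRing W] [IsLocalRing W] [IsDomain W] [IsPrincipalIdealRing W]
    (w : Spec (CommRingCat.of W)) (h : w ≠ closedPoint W) : w.asIdeal = ⊥ := by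
  by_contra hb
  have hp : w.asIdeal.IsPrime := w.2
  have h1 : w.asIdeal.IsMaximal := hp.isMaximal hb
  exact h (PrimeSpectrum.ext (IsLocalRing.eq_maximalIdeal h1))

theorem specOf_closedPoint (X : Scheme.{u}) (x : X) (R : Type u) [CommRing R] [IsLocalRing R]
    [Algebra (X.presheaf.stalk x) R] [IsLocalHom (algebraMap (X.presheaf.stalk x) R)] :
    Hens2.specOf X x R (closedPoint R) = x := by
  unfold Hens2.specOf
  rw [Scheme.Hom.comp_apply]
  have h1 : Spec.map (CommRingCat.ofHom (algebraMap (X.presheaf.stalk x) R)) (IsLocalRing.closedPoint R) =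
      IsLocalRing.closedPoint (X.presheaf.stalk x) := IsLocalRing.comap_closedPoint _
  rw [h1, Scheme.fromSpecStalk_closedPoint]

theorem exists_strictLocal [IsDomain V] [IsPrincipalIdealRing V] [IsLocalRing V] (ι : Type u) [Finite ι]
    (v : Spec (CommRingCat.of V)) (Q : Spec (CommRingCat.of (MvPolynomial ι V)))
    (hQ : Q.asIdeal = v.asIdeal.map (MvPolynomial.C : V →+* MvPolynomial ι V)) :
    ∃ (W : Type u) (_ : CommRing W) (_ : IsLocalRing W)
      (_ : Algebra ((Spec (CommRingCat.of (MvPolynomial ι V))).presheaf.stalk Q) W)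
      (_ : IsLocalHom (algebraMap ((Spec (CommRingCat.of (MvPolynomial ι V))).presheaf.stalk Q) W))
      (_ : Hensel.IsStrictHenselization ((Spec (CommRingCat.of (MvPolynomial ι V))).presheaf.stalk Q) W),
      IsDomain W ∧ IsPrincipalIdealRing W ∧
      ∀ b, φc W b + (φc V v + Nat.card ι) ≤
        dl (φc V) (str V ι) (Hens2.specOf (Spec (CommRingCat.of (MvPolynomial ι V))) Q W b) := by
  let A := Spec (CommRingCat.of (MvPolynomial ι V))
  have hQp : Q.asIdeal.IsPrime := Q.2
  obtain ⟨hD, hP, hF⟩ := Groth.Agent.Etbc.H208.PolyLoc.localization_pid V ι v.asIdeal Q.asIdeal hQ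
  let _ : Algebra (MvPolynomial ι V) (A.presheaf.stalk Q) :=
    (StructureSheaf.toStalk (MvPolynomial ι V) Q).hom.toAlgebra
  have hloc : IsLocalization.AtPrime (A.presheaf.stalk Q) Q.asIdeal :=
    StructureSheaf.IsLocalization.to_stalk (MvPolynomial ι V) Q
  let e : Localization.AtPrime Q.asIdeal ≃ₐ[MvPolynomial ι V] (A.presheaf.stalk Q) :=
    IsLocalization.algEquiv Q.asIdeal.primeCompl _ _
  have hD' : IsDomain (A.presheaf.stalk Q) := e.symm.toRingEquiv.toMulEquiv.isDomain _
  have hP' : IsPrincipalIdealRing (A.presheaf.stalk Q) :=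
    IsPrincipalIdealRing.of_surjective e.toRingEquiv.toRingHom e.surjective
  obtain ⟨W, i1, i2, i3, i4, i5⟩ := Groth.Agent.S0537.result (A.presheaf.stalk Q)
  obtain ⟨hWD, hWP, hWF⟩ := Groth.Agent.Etbc.H208.ShAlg.strictHens_pid (A.presheaf.stalk Q) W
  refine ⟨W, i1, i2, i3, i4, i5, hWD, hWP, fun b => ?_⟩
  by_cases hb : b = closedPoint W
  · subst hb
    rw [φc_closedPoint, specOf_closedPoint, zero_add]
    obtain ⟨h1, h2⟩ := nrt_str V ι v Q hQ
    unfold dl
    rw [h1, h2]
  · have hb' : b.asIdeal = ⊥ := asIdeal_eq_bot_of_ne W b hb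
    have hinj : Function.Injective ((algebraMap (A.presheaf.stalk Q) W).comp
        (algebraMap (MvPolynomial ι V) (A.presheaf.stalk Q))) := by
      have hff := Groth.Agent.S0539.result (A.presheaf.stalk Q) W
      exact (FaithfulSMul.algebraMap_injective _ W).comp
        (IsLocalization.injective _ Q.asIdeal.primeCompl_le_nonZeroDivisors)
    have hsp : (Hens2.specOf A Q W b).asIdeal = ⊥ := by
      have h1 : Hens2.specOf A Q W = Spec.map (CommRingCat.ofHom ((algebraMap (A.presheaf.stalk Q) W).comp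
        (algebraMap (MvPolynomial ι V) (A.presheaf.stalk Q)))) := by
        unfold Hens2.specOf
        rw [Spec.fromSpecStalk_eq']
        exact (Spec.map_comp _ _).symm
      rw [h1]
      change Ideal.comap _ b.asIdeal = ⊥
      rw [hb']
      exact (RingHom.injective_iff_ker_eq_bot _).1 hinj
    have hnf : ¬ IsField W := by
      intro h
      apply hb
      apply PrimeSpectrum.ext
      rw [hb']
      exact ((IsLocalRing.isField_iff_maximalIdeal_eq).1 h).symm
    have hv : v.asIdeal ≠ ⊥ := by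
      intro h
      apply hnf
      rw [hWF]
      have h2 := hF.2 h
      exact e.symm.toRingEquiv.toMulEquiv.isField h2
    have hvc : v = closedPoint V := by
      by_contra h
      exact hv (asIdeal_eq_bot_of_ne V v h)
    let w0 : Spec (CommRingCat.of V) := (⟨⊥, Ideal.isPrime_bot⟩ : PrimeSpectrum V)
    have hw0 : w0 ≠ closedPoint V := by
      intro h
      rw [← hvc] at h
      exact hv (congrArg PrimeSpectrum.asIdeal h).symm
    obtain ⟨h1, h2⟩ := nrt_str V ι w0 (Hens2.specOf A Q W b) (by
      rw [hsp]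
      exact Ideal.map_bot.symm)
    unfold dl
    rw [h1, h2, φc_of_ne V w0 hw0, φc_of_ne W b hb, hvc, φc_closedPoint]
    omega

end coord

end K337.ArtA
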