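import Groth.Agent.EtDual.K337.AB
import Groth.Agent.Etbc.H209.PrimFilt
import Groth.Agent.Etbc.H209.Induct
import Groth.Agent.Etbc.H210.FinPts
import Mathlib.RingTheory.DedekindDomain.Dvr

/-!
# Spectra of Dedekind domains as bases for affine vanishing
-/

set_option autoImplicit false
universe u
open CategoryTheory CategoryTheory.Limits AlgebraicGeometry Opposite IsLocalRing
open Groth.Agent.EtpbcA Groth.Agent.EtpbcA.Artin

namespace K337.ArtA

section loc

variable (R : Type u) [CommRing R] [IsDedekindDomain R]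

/-- The generic point. -/
noncomputable def gpt (R : Type u) [CommRing R] [IsDomain R] : Spec (CommRingCat.of R) :=
  (⟨⊥, Ideal.isPrime_bot⟩ : PrimeSpectrum R)

theorem exists_loc (b : Spec (CommRingCat.of R)) :
    ∃ (W : Type u) (_ : CommRing W) (_ : IsLocalRing W) (_ : Algebra ((Spec (CommRingCat.of R)).presheaf.stalk b) W)
      (_ : IsLocalHom (algebraMap ((Spec (CommRingCat.of R)).presheaf.stalk b) W))
      (_ : Hensel.IsStrictHenselization ((Spec (CommRingCat.of R)).presheaf.stalk b) W),
      IsDomain W ∧ IsPrincipalIdealRing W ∧ (b = gpt R → IsField W) ∧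
      ∀ w, w ≠ closedPoint W → Hens2.specOf (Spec (CommRingCat.of R)) b W w = gpt R := by
  let B := Spec (CommRingCat.of R)
  have hbp : b.asIdeal.IsPrime := b.2
  let _ : Algebra R (B.presheaf.stalk b) := (StructureSheaf.toStalk R b).hom.toAlgebra
  have hloc : IsLocalization.AtPrime (B.presheaf.stalk b) b.asIdeal :=
    StructureSheaf.IsLocalization.to_stalk R b
  have hD' : IsDomain (B.presheaf.stalk b) :=
    IsLocalization.isDomain_of_le_nonZeroDivisors (B.presheaf.stalk b) b.asIdeal.primeCompl_le_nonZeroDivisors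
  have hfield : b.asIdeal = ⊥ → IsField (B.presheaf.stalk b) := by
    intro hb
    rw [IsLocalRing.isField_iff_maximalIdeal_eq, ← IsLocalization.AtPrime.map_eq_maximalIdeal b.asIdeal
      (B.presheaf.stalk b), hb, Ideal.map_bot]
  have hP' : IsPrincipalIdealRing (B.presheaf.stalk b) := by
    by_cases hb : b.asIdeal = ⊥
    · let _ := (hfield hb).toField
      infer_instance
    · have := IsLocalization.AtPrime.isDiscreteValuationRing_of_dedekind_domain R hb (B.presheaf.stalk b)
      infer_instance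
  obtain ⟨W, i1, i2, i3, i4, i5⟩ := Groth.Agent.S0537.result (B.presheaf.stalk b)
  obtain ⟨hWD, hWP, hWF⟩ := Groth.Agent.Etbc.H208.ShAlg.strictHens_pid (B.presheaf.stalk b) W
  refine ⟨W, i1, i2, i3, i4, i5, hWD, hWP, fun hb => hWF.2 (hfield (by rw [hb]; rfl)), fun w hw => ?_⟩
  have hb' : w.asIdeal = ⊥ := asIdeal_eq_bot_of_ne W w hw
  have hinj : Function.Injective ((algebraMap (B.presheaf.stalk b) W).comp
      (algebraMap R (B.presheaf.stalk b))) := by
    have hff := Groth.Agent.S0539.result (B.presheaf.stalk b) W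
    exact (FaithfulSMul.algebraMap_injective _ W).comp
      (IsLocalization.injective _ b.asIdeal.primeCompl_le_nonZeroDivisors)
  have h1 : Hens2.specOf B b W = Spec.map (CommRingCat.ofHom ((algebraMap (B.presheaf.stalk b) W).comp
      (algebraMap R (B.presheaf.stalk b)))) := by
    unfold Hens2.specOf
    rw [Spec.fromSpecStalk_eq']
    exact (Spec.map_comp _ _).symm
  have h2 : Hens2.specOf B b W w = gpt R := by
    rw [h1]
    apply PrimeSpectrum.ext
    change Ideal.comap _ w.asIdeal = ⊥
    rw [hb']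
    exact (RingHom.injective_iff_ker_eq_bot _).1 hinj
  exact h2

theorem locPID_one (φB : Spec (CommRingCat.of R) → ℕ) (h1 : ∀ b, 1 ≤ φB b) (h2 : 2 ≤ φB (gpt R))
    (b : Spec (CommRingCat.of R)) : LocPID φB b 1 := by
  obtain ⟨W, i1, i2, i3, i4, i5, hWD, hWP, -, hg⟩ := exists_loc R b
  refine ⟨W, i1, i2, i3, i4, i5, hWD, hWP, fun w => ?_⟩
  by_cases hw : w = closedPoint W
  · subst hw
    rw [φc_closedPoint, specOf_closedPoint, zero_add]
    exact h1 b
  · rw [φc_of_ne W w hw, hg w hw]
    exact h2

theorem locPID_two (φB : Spec (CommRingCat.of R) → ℕ) (h2 : 2 ≤ φB (gpt R)) : LocPID φB (gpt R) 2 := by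
  obtain ⟨W, i1, i2, i3, i4, i5, hWD, hWP, hF, -⟩ := exists_loc R (gpt R)
  refine ⟨W, i1, i2, i3, i4, i5, hWD, hWP, fun w => ?_⟩
  have hw : w = closedPoint W := by
    by_contra hw
    have h3 : w.asIdeal = ⊥ := asIdeal_eq_bot_of_ne W w hw
    apply hw
    apply PrimeSpectrum.ext
    rw [h3]
    exact ((IsLocalRing.isField_iff_maximalIdeal_eq).1 (hF rfl)).symm
  subst hw
  rw [φc_closedPoint, specOf_closedPoint, zero_add]
  exact h2

end loc

section pts

variable (R : Type u) [CommRing R] [IsDomain R] [IsNoetherianRing R] [Ring.DimensionLEOne R]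

omit [IsNoetherianRing R] in
theorem eq_of_specializes (x y : Spec (CommRingCat.of R)) (h : x ⤳ y) (hxy : x ≠ y) : x = gpt R := by
  by_contra hx
  have h1 : x.asIdeal ≤ y.asIdeal := (PrimeSpectrum.le_iff_specializes x y).2 h
  have h2 : x.asIdeal ≠ ⊥ := fun h0 => hx (PrimeSpectrum.ext h0)
  have h3 : x.asIdeal.IsMaximal := Ring.DimensionLEOne.maximalOfPrime h2 x.2
  exact hxy (PrimeSpectrum.ext (h3.eq_of_le y.2.ne_top h1))

omit [IsNoetherianRing R] in
theorem isClosed_of_ne (x : Spec (CommRingCat.of R)) (hx : x ≠ gpt R) :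
    IsClosed ({x} : Set (Spec (CommRingCat.of R))) := by
  refine (PrimeSpectrum.isClosed_singleton_iff_isMaximal x).2 ?_
  exact Ring.DimensionLEOne.maximalOfPrime (fun h0 => hx (PrimeSpectrum.ext h0)) x.2

/-- Sheaves supported away from the generic point have no cohomology in degrees above the cohomological
dimension of the closed points. -/
theorem H_subsingleton_of_supp_closed {ℓ d : ℕ}
    (hd : ∀ b : Spec (CommRingCat.of R), b ≠ gpt R →
      _root_.Dix.CohDimLEAt (Spec ((Spec (CommRingCat.of R)).residueField b)) ℓ d)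
    (G : EtCoh.Ab (Spec (CommRingCat.of R))) (hG : _root_.Dix.IsPrimaryTorsion ℓ G)
    (hs : EtPBC.supp G ⊆ {b | b ≠ gpt R}) (p : ℕ) (hp : d < p) :
    Subsingleton (EtCoh.H (Spec (CommRingCat.of R)) G p) := by
  classical
  have hN : IsNoetherian (Spec (CommRingCat.of R)) := inferInstance
  refine Groth.Agent.Etbc.H209.PrimFilt.van_of_supp_stable' {b | b ≠ gpt R} p ?_ G hs ?_
  · intro x y hxy hx hy
    by_cases h : x = y
    · subst h; exact hx hy
    · exact hx (eq_of_specializes R x y hxy h)
  · intro T hT hTE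
    let φ : Spec (CommRingCat.of R) → ℕ := fun b => if b = gpt R then 1 else 0
    have hφ : ∀ x y : Spec (CommRingCat.of R), x ⤳ y → x ≠ y → φ y < φ x := by
      intro x y hxy hne
      have h1 := eq_of_specializes R x y hxy hne
      have h2 : y ≠ gpt R := fun h => hne (h1.trans h.symm)
      simp only [φ, if_pos h1, if_neg h2]
      exact Nat.one_pos
    have hfin : {x ∈ T | φ x = 0}.Finite := Groth.Agent.Etbc.H209.Induct.finite_max φ hφ 0 T hT (fun x hx => by
      have : x ≠ gpt R := hTE hx
      simp only [φ, if_neg this, le_refl])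
    have hTf : T.Finite := hfin.subset fun x hx => ⟨hx, by
      have : x ≠ gpt R := hTE hx
      simp only [φ, if_neg this]⟩
    refine Groth.Agent.Etbc.H210.FinPts.H_subsingleton_of_finite_closed ℓ d hTf.toFinset
      (fun w hw => isClosed_of_ne R w (hTE (hTf.mem_toFinset.1 hw)))
      (fun w hw => hd w (hTE (hTf.mem_toFinset.1 hw))) _
      (Groth.Agent.Etbc.H209.PrimFilt.isPrimaryTorsion_of_mono
        (Groth.Agent.CurvesA.SubSheafEt.ι (Groth.Agent.CurvesA.Punctual.suppData G T)) hG) ?_ p hp
    intro w hw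
    rw [hTf.coe_toFinset]
    exact (Groth.Agent.CurvesA.Punctual.supp_sub G T hw).1

end pts

end K337.ArtA
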