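import Groth.Agent.CycB.RelDim4
import Groth.Agent.EtpbcA.ArtinGeneric
import Groth.Agent.Etbc.H208.ShAlg

/-!
# Dimension functions over a base, algebraic residue field extensions

* `nrt f x`: the transcendence degree of `κ(x)/κ(f x)` as a natural number;
* `dl φ f x = φ (f x) + nrt f x`;
* `algRes_universally`: algebraic residue extensions are stable under base change;
* `algRes_specOf`: strict localizations have algebraic residue field extensions.
-/

set_option autoImplicit false
universe u
open CategoryTheory CategoryTheory.Limits AlgebraicGeometry Opposite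
open Groth.Agent.CycB.RelDim Groth.Agent.CycB.TrdegAlg
open Groth.Agent.EtpbcA.Artin
open AlgebraicGeometry.Scheme.Pullback

namespace K337.ArtA

variable {X Y Z : Scheme.{u}}

/-- The transcendence degree of the residue field extension, as a natural number. -/
noncomputable def nrt (f : X ⟶ Y) (x : X) : ℕ := Cardinal.toNat (rtd f x)

/-- The dimension function `φ (f x) + trdeg κ(x)/κ(f x)`. -/
noncomputable def dl (φ : Y → ℕ) (f : X ⟶ Y) (x : X) : ℕ := φ (f x) + nrt f x

theorem natCast_nrt (f : X ⟶ Y) [LocallyOfFiniteType f] (x : X) : (nrt f x : Cardinal.{u}) = rtd f x :=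
  Cardinal.cast_toNat_of_lt_aleph0 (rtd_lt_aleph0 f x)

theorem rtd_eq_zero_of_algAt (f : X ⟶ Y) (x : X) (h : AlgAt f x) : rtd f x = 0 := by
  unfold rtd trd
  let _ := (f.residueFieldMap x).hom.toAlgebra
  have : Algebra.IsIntegral (Y.residueField (f x)) (X.residueField x) := ⟨h⟩
  exact trdeg_eq_zero

theorem nrt_comp (f : X ⟶ Y) (g : Y ⟶ Z) [LocallyOfFiniteType f] [LocallyOfFiniteType g] (x : X) :
    nrt (f ≫ g) x = nrt g (f x) + nrt f x := by
  have h : ((nrt (f ≫ g) x : ℕ) : Cardinal.{u}) = ((nrt g (f x) + nrt f x : ℕ) : Cardinal.{u}) := by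
    rw [natCast_nrt, Nat.cast_add, natCast_nrt, natCast_nrt, rtd_comp]
  exact_mod_cast h

theorem nrt_comp_of_algAt_left (h : X ⟶ Y) (f : Y ⟶ Z) (x : X) (hx : AlgAt h x) :
    nrt (h ≫ f) x = nrt f (h x) := by
  unfold nrt
  rw [rtd_comp, rtd_eq_zero_of_algAt h x hx, add_zero]

theorem nrt_comp_of_algAt_right (c : X ⟶ Y) (i : Y ⟶ Z) (x : X) (hx : AlgAt i (c x)) :
    nrt (c ≫ i) x = nrt c x := by
  unfold nrt
  rw [rtd_comp, rtd_eq_zero_of_algAt i (c x) hx, zero_add]

theorem dl_comp (φ : Z → ℕ) (f : X ⟶ Y) (g : Y ⟶ Z) [LocallyOfFiniteType f] [LocallyOfFiniteType g] (x : X) :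
    dl φ (f ≫ g) x = dl (dl φ g) f x := by
  unfold dl
  rw [nrt_comp, Scheme.Hom.comp_apply, add_assoc]

theorem dl_comp_of_algAt (φ : Z → ℕ) (h : X ⟶ Y) (f : Y ⟶ Z) (x : X) (hx : AlgAt h x) :
    dl φ (h ≫ f) x = dl φ f (h x) := by
  unfold dl
  rw [nrt_comp_of_algAt_left h f x hx, Scheme.Hom.comp_apply]

/-- Change of base along a morphism with algebraic residue extensions. -/
theorem dl_tower {A B W : Scheme.{u}} (φA : A → ℕ) (φB : B → ℕ) (i : B ⟶ A) (e : ℕ)
    (hi : ∀ b, AlgAt i b) (hφ : ∀ b, φB b + e ≤ φA (i b))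
    (f : X ⟶ A) (c : W ⟶ B) (h : W ⟶ X) (comm : h ≫ f = c ≫ i) (w : W) (hw : AlgAt h w) :
    dl φB c w + e ≤ dl φA f (h w) := by
  have h1 : nrt f (h w) = nrt c w := by
    rw [← nrt_comp_of_algAt_left h f w hw, comm, nrt_comp_of_algAt_right c i w (hi _)]
  have h2 : f (h w) = i (c w) := by
    rw [← Scheme.Hom.comp_apply, comm, Scheme.Hom.comp_apply]
  unfold dl
  rw [h1, h2]
  have := hφ (c w)
  omega

section alg

theorem isIntegral_of_fracGen {K B L : Type u} [Field K] [CommRing B] [Field L] (α : K →+* B) (ψ : B →+* L)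
    (hf : FracGen ψ) (h : ∀ b, (ψ.comp α).IsIntegralElem (ψ b)) : (ψ.comp α).IsIntegral := by
  let _ : Algebra K L := (ψ.comp α).toAlgebra
  intro z
  obtain ⟨a, b, hb, hab⟩ := hf z
  have h1 : z = ψ a * (ψ b)⁻¹ := by
    rw [← hab, mul_assoc, mul_inv_cancel₀ hb, mul_one]
  rw [h1]
  have ha' : IsIntegral K (ψ a) := h a
  have hb' : IsIntegral K (ψ b) := h b
  exact ha'.mul hb'.inv

/-- Algebraic residue field extensions pass to fibre products. -/
theorem algAt_fst {S : Scheme.{u}} {f : X ⟶ S} {g : Y ⟶ S} (t : ↥(pullback f g))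
    (h : AlgAt g (pullback.snd f g t)) : AlgAt (pullback.fst f g) t := by
  have hfrac := fracGen_ofPointTensor t
  set T := Triplet.ofPoint t with hT
  let φ₁ := (S.residueFieldCongr T.hx).inv ≫ f.residueFieldMap T.x
  let φ₂ := (S.residueFieldCongr T.hy).inv ≫ g.residueFieldMap T.y
  have hpo : CategoryTheory.IsPushout φ₁ φ₂ T.tensorInl T.tensorInr :=
    CategoryTheory.IsPushout.of_hasPushout _ _
  let _ : Algebra (S.residueField T.s) (X.residueField T.x) := φ₁.hom.toAlgebra
  let _ : Algebra (S.residueField T.s) (Y.residueField T.y) := φ₂.hom.toAlgebra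
  let _ : Algebra (X.residueField T.x) T.tensor := T.tensorInl.hom.toAlgebra
  let _ : Algebra (Y.residueField T.y) T.tensor := T.tensorInr.hom.toAlgebra
  let _ : Algebra (S.residueField T.s) T.tensor := (φ₁ ≫ T.tensorInl).hom.toAlgebra
  have : IsScalarTower (S.residueField T.s) (X.residueField T.x) T.tensor :=
    .of_algebraMap_eq fun _ => rfl
  have : IsScalarTower (S.residueField T.s) (Y.residueField T.y) T.tensor :=
    .of_algebraMap_eq fun a => congrArg (fun φ => φ.hom a) hpo.w
  have hpo' : Algebra.IsPushout (S.residueField T.s) (X.residueField T.x) (Y.residueField T.y)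
    T.tensor := CommRingCat.isPushout_iff_isPushout.mp hpo
  have h2 : φ₂.hom.IsIntegral := by
    have h3 : (S.residueFieldCongr T.hy).inv.hom.IsIntegral :=
      RingHom.isIntegral_of_surjective _
        (ConcreteCategory.bijective_of_isIso (S.residueFieldCongr T.hy).inv).2
    exact RingHom.IsIntegral.trans _ _ h3 h
  have h3 : Algebra.IsIntegral (S.residueField T.s) (Y.residueField T.y) := ⟨h2⟩
  have h4 : Algebra.IsIntegral (X.residueField T.x) T.tensor := by
    let e := Algebra.IsPushout.equiv (S.residueField T.s) (X.residueField T.x) (Y.residueField T.y) T.tensor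
    refine ⟨fun z => ?_⟩
    have h5 : IsIntegral (X.residueField T.x) (e.symm z) := Algebra.IsIntegral.isIntegral _
    have h6 := h5.map e
    rwa [e.apply_symm_apply] at h6
  have h1 : T.tensorInl ≫ ofPointTensor t = (pullback.fst f g).residueFieldMap t :=
    pushout.inl_desc _ _ _
  have key : ((ofPointTensor t).hom.comp T.tensorInl.hom).IsIntegral := by
    refine isIntegral_of_fracGen _ _ hfrac fun b => ?_
    have h5 : IsIntegral (X.residueField T.x) b := Algebra.IsIntegral.isIntegral _
    obtain ⟨p, hp, hp0⟩ := h5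
    refine ⟨p, hp, ?_⟩
    rw [← Polynomial.hom_eval₂]
    have hp0' : Polynomial.eval₂ T.tensorInl.hom b p = 0 := hp0
    rw [hp0', map_zero]
  have h6 : ((ofPointTensor t).hom.comp T.tensorInl.hom) = ((pullback.fst f g).residueFieldMap t).hom := by
    rw [← h1]; rfl
  rw [h6] at key
  exact key

theorem algRes_universally {S T : Scheme.{u}} (g : T ⟶ S) (h : ∀ t, AlgAt g t) : AlgRes.universally g := by
  intro W X i₁ i₂ k H w
  let e := H.isoPullback
  have he : e.hom ≫ pullback.fst i₂ g = k := H.isoPullback_hom_fst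
  rw [← he]
  refine AlgAt.comp (algAt_of_surjectiveOnStalks _ w) ?_
  exact algAt_fst _ (h _)

/-- Residue field extension of a map of affine schemes. -/
theorem algAt_specMap {A R : CommRingCat.{u}} (φ : A ⟶ R) (t : Spec R)
    (h : ∀ (K L : Type u) [Field K] [Field L] (_ : Algebra K L) (β : A →+* K) (ψ : R →+* L),
      ψ.comp φ.hom = (algebraMap K L).comp β → ∀ r, IsAlgebraic K (ψ r)) : AlgAt (Spec.map φ) t := by
  let K := (Spec A).residueField (Spec.map φ t)
  let L := (Spec R).residueField t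
  let _ : Algebra K L := ((Spec.map φ).residueFieldMap t).hom.toAlgebra
  let β : A →+* K := ((Scheme.ΓSpecIso A).inv ≫ (Spec A).evaluation ⊤ (Spec.map φ t) trivial).hom
  let ψ : R →+* L := ((Scheme.ΓSpecIso R).inv ≫ (Spec R).evaluation ⊤ t trivial).hom
  have hcomm : ψ.comp φ.hom = (algebraMap K L).comp β := by
    have h1 : φ ≫ (Scheme.ΓSpecIso R).inv ≫ (Spec R).evaluation ⊤ t trivial =
        ((Scheme.ΓSpecIso A).inv ≫ (Spec A).evaluation ⊤ (Spec.map φ t) trivial) ≫
          (Spec.map φ).residueFieldMap t := by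
      have h2 := Scheme.evaluation_naturality (Spec.map φ) t (V := ⊤) trivial
      have h3 := Scheme.ΓSpecIso_inv_naturality φ
      refine ((Category.assoc _ _ _).symm.trans (congrArg (· ≫ (Spec R).evaluation ⊤ t trivial) h3)).trans ?_
      refine (Category.assoc _ _ _).trans (Eq.trans ?_ (Category.assoc _ _ _).symm)
      exact congrArg ((Scheme.ΓSpecIso A).inv ≫ ·) h2.symm
    exact congrArg CommRingCat.Hom.hom h1
  have halg := h K L inferInstance β ψ hcomm
  have hfr : FracGen ψ := by
    have h1 : FracGen ((Spec R).evaluation ⊤ t trivial).hom := fracGen_evaluation (isAffineOpen_top _) t trivial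
    exact fracGen_precomp _ (ConcreteCategory.bijective_of_isIso (Scheme.ΓSpecIso R).inv).2 h1
  intro z
  change IsIntegral K z
  obtain ⟨a, b, hb, hab⟩ := hfr z
  have h1 : z = ψ a * (ψ b)⁻¹ := by
    rw [← hab, mul_assoc, mul_inv_cancel₀ hb, mul_one]
  rw [h1]
  exact (halg a).isIntegral.mul (halg b).isIntegral.inv

theorem algAt_specOf (S : Scheme.{u}) (s : S) (R : Type u) [CommRing R] [IsLocalRing R]
    [Algebra (S.presheaf.stalk s) R] [IsLocalHom (algebraMap (S.presheaf.stalk s) R)]
    [Hensel.IsStrictHenselization (S.presheaf.stalk s) R] (t : Spec (CommRingCat.of R)) :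
    AlgAt (Hens2.specOf S s R) t := by
  refine AlgAt.comp (algAt_specMap _ t ?_) (algAt_of_surjectiveOnStalks _ _)
  intro K L _ _ _ β ψ hc r
  exact Groth.Agent.Etbc.H208.ShAlg.isAlgebraic_of_strictHens (S.presheaf.stalk s) R K L β ψ hc r

theorem algRes_specOf (S : Scheme.{u}) (s : S) (R : Type u) [CommRing R] [IsLocalRing R]
    [Algebra (S.presheaf.stalk s) R] [IsLocalHom (algebraMap (S.presheaf.stalk s) R)]
    [Hensel.IsStrictHenselization (S.presheaf.stalk s) R] :
    AlgRes.universally (Hens2.specOf S s R) :=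
  algRes_universally _ (algAt_specOf S s R)

end alg

end K337.ArtA
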