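import Groth.Agent.EtDual.K337.Dl
import Groth.Agent.EtpbcA.ArtinLemG
import Groth.Agent.Etbc.H211.PrimTors

/-!
# Affine vanishing over a base with a dimension function: supports of higher direct images

`QB ℓ φ m`: affine vanishing for `ℓ`-primary sheaves over the base `B` with dimension function `φ`.
-/

set_option autoImplicit false
universe u
open CategoryTheory CategoryTheory.Limits AlgebraicGeometry Opposite
open Groth.Agent.EtpbcA Groth.Agent.EtpbcA.Artin

namespace K337.ArtA

/-- Affine vanishing over `B` for the dimension function `φ`. -/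
def QB (ℓ : ℕ) {B : Scheme.{u}} (φ : B → ℕ) (m : ℕ) : Prop :=
  ∀ (X : Scheme.{u}) [IsAffine X] (f : X ⟶ B) [LocallyOfFiniteType f] (F : EtCoh.Ab X),
    _root_.Dix.IsPrimaryTorsion ℓ F → (∀ x ∈ EtPBC.supp F, dl φ f x ≤ m) →
    ∀ q : ℕ, m < q → Subsingleton (EtCoh.H X F q)

/-- Vanishing on an affine scheme mapping to `X`, when the dimension drops by `e`. -/
theorem subsingleton_H_pull {ℓ : ℕ} {A B : Scheme.{u}} (φA : A → ℕ) (φB : B → ℕ) (i : B ⟶ A) (e n q : ℕ)
    (hi : ∀ b, AlgAt i b) (hφ : ∀ b, φB b + e ≤ φA (i b))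
    {X W : Scheme.{u}} [IsAffine W] (aX : X ⟶ A) (c : W ⟶ B) [LocallyOfFiniteType c]
    (h : W ⟶ X) (comm : h ≫ aX = c ≫ i) (halg : ∀ w, AlgAt h w)
    (F : EtCoh.Ab X) (hF : _root_.Dix.IsPrimaryTorsion ℓ F) (hs : ∀ x ∈ EtPBC.supp F, dl φA aX x ≤ n)
    (hQ : e ≤ n → QB ℓ φB (n - e)) (hq : n < q + e) :
    Subsingleton (EtCoh.H W ((EtCoh.pull h).obj F) q) := by
  have key : ∀ w ∈ EtPBC.supp ((EtCoh.pull h).obj F), dl φB c w + e ≤ n := by
    intro w hw
    rw [supp_pull] at hw
    exact (dl_tower φA φB i e hi hφ aX c h comm w (halg w)).trans (hs (h w) hw)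
  by_cases hen : e ≤ n
  · refine hQ hen W c _ (Groth.Agent.Etbc.H211.PrimTors.isPrimaryTorsion_pull ℓ h F hF)
      (fun w hw => ?_) q (by omega)
    have := key w hw
    omega
  · refine CdEtLeray.H_subsingleton_of_isZero (isZero_of_forall _ fun w hw => hen ?_) q
    have := key w hw
    omega

/-- The support of `R^q f_* F` at a point `y` of `Y` over `p : A`, computed over the strict localization
`C` of `A` at `p`, when the base change of `X` to `C` lives over `B ⊆ Spec C`. -/
theorem not_mem_supp_Rpush_of_strict {ℓ : ℕ} {A B : Scheme.{u}} (φA : A → ℕ) (φB : B → ℕ) (e n q : ℕ)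
    {X Y : Scheme.{u}} (f : X ⟶ Y) [IsAffineHom f] (T : Y ⟶ A)
    [LocallyOfFiniteType (f ≫ T)] (p : A) (C : Type u) [CommRing C] [IsLocalRing C]
    [Algebra (A.presheaf.stalk p) C] [IsLocalHom (algebraMap (A.presheaf.stalk p) C)]
    [Hensel.IsStrictHenselization (A.presheaf.stalk p) C]
    (i : B ⟶ Spec (CommRingCat.of C)) (hi : ∀ b, AlgAt (i ≫ Hens2.specOf A p C) b)
    (hφ : ∀ b, φB b + e ≤ φA ((i ≫ Hens2.specOf A p C) b))
    {X' : Scheme.{u}} (gX : X' ⟶ X)
    (cX : X' ⟶ B)
    (hX : IsPullback gX (cX ≫ i) (f ≫ T) (Hens2.specOf A p C))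
    (hXL : IsPullback gX cX (f ≫ T) (i ≫ Hens2.specOf A p C))
    (y : Y) (hy : T y = p)
    (F : EtCoh.Ab X) (hF : _root_.Dix.IsPrimaryTorsion ℓ F)
    (hs : ∀ x ∈ EtPBC.supp F, dl φA (f ≫ T) x ≤ n)
    (hQ : e ≤ n → QB ℓ φB (n - e)) (hq : n < q + e) :
    y ∉ EtPBC.supp ((EtCoh.Rpush f q).obj F) := by
  have hcl : Hens2.specOf A p C (IsLocalRing.closedPoint C) = p := by
    unfold Hens2.specOf
    rw [Scheme.Hom.comp_apply]
    have h1 : Spec.map (CommRingCat.ofHom (algebraMap (A.presheaf.stalk p) C)) (IsLocalRing.closedPoint C) =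
        IsLocalRing.closedPoint (A.presheaf.stalk p) := IsLocalRing.comap_closedPoint _
    rw [h1, Scheme.fromSpecStalk_closedPoint]
  let Y' := pullback T (Hens2.specOf A p C)
  let g : Y' ⟶ Y := pullback.fst T (Hens2.specOf A p C)
  let s : Y' ⟶ Spec (CommRingCat.of C) := pullback.snd T (Hens2.specOf A p C)
  have hY : IsPullback g s T (Hens2.specOf A p C) := IsPullback.of_hasPullback _ _
  obtain ⟨y', hy1, hy2⟩ := Scheme.Pullback.exists_preimage_pullback (f := T) (g := Hens2.specOf A p C) y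
    (IsLocalRing.closedPoint C) (hy.trans hcl.symm)
  change g y' = y at hy1
  change s y' = _ at hy2
  let f' : X' ⟶ Y' := pullback.lift (gX ≫ f) (cX ≫ i) (by rw [Category.assoc]; exact hX.w)
  have hf'1 : f' ≫ g = gX ≫ f := pullback.lift_fst _ _ _
  have hf'2 : f' ≫ s = cX ≫ i := pullback.lift_snd _ _ _
  have hf' : IsPullback gX f' f g := by
    refine IsPullback.of_bot (by rw [hf'2]; exact hX) hf'1.symm hY
  rw [← hy1]
  refine not_mem_supp_of_transfer f g f' gX hf' F q y' (goodTransfer_baseChange T p C g s hY y' hy2) ?_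
  refine not_mem_supp_Rpush f' _ q y' ?_
  intro V v hv
  obtain ⟨W, k, hW, -, w, hw⟩ := Groth.Agent.Etrest.Site0.exists_affine V v
  refine ⟨W, k, w, hw, ?_⟩
  have hf'a : IsAffineHom f' := MorphismProperty.of_isPullback hf' inferInstance
  have hWa : IsAffine (pullback (X := W.left) W.hom f') := by
    have h1 : IsAffineHom (pullback.fst (X := W.left) W.hom f') :=
      MorphismProperty.pullback_fst _ _ hf'a
    have : IsAffine W.left := hW
    exact isAffine_of_isAffineHom (pullback.fst (X := W.left) W.hom f')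
  let V' : Scheme.{u} := ((EtCoh.bc f').obj W).left
  let v' : V' ⟶ X' := ((EtCoh.bc f').obj W).hom
  have : IsAffine V' := hWa
  have : Etale v' := ((EtCoh.bc f').obj W).prop
  have : LocallyOfFiniteType cX := MorphismProperty.of_isPullback hXL inferInstance
  have : LocallyOfFiniteType (v' ≫ cX) := inferInstance
  have halg := algRes_universally _ hi
  refine CdEtLeray.H_subsingleton_of_iso ((EtCore.pullComp v' gX).app F) q
    (subsingleton_H_pull φA φB (i ≫ Hens2.specOf A p C) e n q hi hφ (f ≫ T) (v' ≫ cX)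
      (v' ≫ gX) ?_ ?_ F hF hs hQ hq)
  · have := hXL.w
    rw [Category.assoc, Category.assoc, this]
  · intro w
    exact AlgAt.comp (algAt_of_etale v' w) (halg _ _ _ hXL _)

end K337.ArtA
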