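import Groth.Agent.EtDual.K337.LemG
import Groth.Agent.EtDual.K337.Coord

/-!
# Supports of higher direct images at points of positive dimension

`QA ℓ m`: affine vanishing in dimension `≤ m` over all strictly henselian local principal ideal domains.
-/

set_option autoImplicit false
universe u
open CategoryTheory CategoryTheory.Limits AlgebraicGeometry Opposite IsLocalRing
open Groth.Agent.EtpbcA Groth.Agent.EtpbcA.Artin

namespace K337.ArtA

/-- Affine vanishing in dimension `≤ m` over all strictly henselian local principal ideal domains in which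
`ℓ` is invertible. -/
def QA (ℓ m : ℕ) : Prop :=
  ∀ (W : Type u) [CommRing W] [IsDomain W] [HenselianLocalRing W] [IsPrincipalIdealRing W]
    [IsSepClosed (ResidueField W)], IsUnit (ℓ : W) → QB ℓ (B := Spec (CommRingCat.of W)) (φc W) m

theorem isUnit_natCast_of_ringHom {V W : Type*} [CommRing V] [CommRing W] (f : V →+* W) {ℓ : ℕ}
    (h : IsUnit (ℓ : V)) : IsUnit (ℓ : W) := by
  have := h.map f
  rwa [map_natCast] at this

/-- `R^q f_* F` vanishes at `y` when `dim F < dim y + q`. -/
theorem not_mem_supp_Rpush_of_dl {ℓ : ℕ} (V : Type u) [CommRing V] [IsDomain V] [IsLocalRing V]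
    [IsPrincipalIdealRing V] (hu : IsUnit (ℓ : V)) {X Y : Scheme.{u}} [IsAffine Y]
    (aY : Y ⟶ Spec (CommRingCat.of V)) [LocallyOfFiniteType aY] (f : X ⟶ Y) [IsAffineHom f]
    [LocallyOfFiniteType f] (n e q : ℕ) (hnq : n < e + q) (y : Y) (hy : e ≤ dl (φc V) aY y)
    (hQ : ∀ m, m + e ≤ n → QA.{u} ℓ m)
    (F : EtCoh.Ab X) (hF : _root_.Dix.IsPrimaryTorsion ℓ F)
    (hs : ∀ x ∈ EtPBC.supp F, dl (φc V) (f ≫ aY) x ≤ n) :
    y ∉ EtPBC.supp ((EtCoh.Rpush f q).obj F) := by
  obtain ⟨ι, hι, T, hT1, hT2, hT3⟩ := exists_coord aY y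
  obtain ⟨W, i1, i2, i3, i4, i5, hWD, hWP, hφ⟩ := exists_strictLocal ι (aY y) (T y) hT2
  have hdy : φc V (aY y) + Nat.card ι = dl (φc V) aY y := by
    unfold dl
    rw [hT3]
  rw [hdy] at hφ
  have hWh : HenselianLocalRing W := i5.henselian
  have hWs : IsSepClosed (ResidueField W) := i5.isSepClosure.sep_closed
  have hT' : LocallyOfFiniteType (T ≫ str V ι) := by rw [hT1]; infer_instance
  have hTft : LocallyOfFiniteType T := locallyOfFiniteType_of_comp T (str V ι)
  have hWu : IsUnit (ℓ : W) := isUnit_natCast_of_ringHom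
    ((algebraMap ((Spec (CommRingCat.of (MvPolynomial ι V))).presheaf.stalk (T y)) W).comp
      ((StructureSheaf.toStalk (MvPolynomial ι V) (T y)).hom.comp MvPolynomial.C)) hu
  refine not_mem_supp_Rpush_of_strict (B := Spec (CommRingCat.of W)) (dl (φc V) (str V ι)) (φc W)
    (dl (φc V) aY y) n q f T (T y) W (𝟙 _) (fun b => ?_) (fun b => ?_)
    (pullback.fst (f ≫ T) (Hens2.specOf _ (T y) W)) (pullback.snd (f ≫ T) (Hens2.specOf _ (T y) W))
    ?_ ?_ y rfl F hF ?_ ?_ ?_
  · rw [Category.id_comp]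
    exact algAt_specOf _ _ _ _
  · rw [Category.id_comp]
    exact hφ b
  · rw [Category.comp_id]
    exact IsPullback.of_hasPullback _ _
  · rw [Category.id_comp]
    exact IsPullback.of_hasPullback _ _
  · intro x hx
    rw [← dl_comp, Category.assoc, hT1]
    exact hs x hx
  · intro hle
    exact hQ _ (by omega) W hWu
  · omega

end K337.ArtA
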