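import Groth.Agent.EtDual.K337.Ded
import Groth.Agent.Etbc.H208.UpperSch
import Mathlib.RingTheory.KrullDimension.Polynomial
import Mathlib.RingTheory.KrullDimension.PID
import Mathlib.RingTheory.KrullDimension.NonZeroDivisors

/-!
# The punctured strict localization of the affine line over a discrete valuation ring

`V` a discrete valuation ring, `C` a strict henselization of `V[X]` at the origin of the special fibre;
`C[1/X]` is a Dedekind domain whose closed points have residue fields of `ℓ`-cohomological dimension `≤ 1`.
-/

set_option autoImplicit false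
universe u
open CategoryTheory CategoryTheory.Limits AlgebraicGeometry Opposite IsLocalRing
open Groth.Agent.CycB.RelDim Groth.Agent.CycB.TrdegAlg
open Groth.Agent.EtpbcA Groth.Agent.EtpbcA.Artin

namespace K337.ArtA

section ded

theorem dedekind_of_two (C : Type u) [CommRing C] [IsDomain C] [IsLocalRing C] [IsNoetherianRing C]
    [IsIntegrallyClosed C] (hC : ringKrullDim C ≤ 2) (x : C) (hx : x ∈ maximalIdeal C) (hx0 : x ≠ 0) :
    IsDedekindDomain (Localization.Away x) := by
  have hle : Submonoid.powers x ≤ nonZeroDivisors C := powers_le_nonZeroDivisors_of_noZeroDivisors hx0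
  have hD : IsDomain (Localization.Away x) := IsLocalization.isDomain_localization hle
  have hN : IsNoetherianRing (Localization.Away x) := IsLocalization.isNoetherianRing (Submonoid.powers x) _ inferInstance
  have hI : IsIntegrallyClosed (Localization.Away x) :=
    isIntegrallyClosed_of_isLocalization (Localization.Away x) (Submonoid.powers x) hle
  have hdim : Ring.DimensionLEOne (Localization.Away x) := by
    refine ⟨fun {P} hP0 hP => ?_⟩
    by_contra hmax
    obtain ⟨Q, hQ, hPQ⟩ := Ideal.exists_le_maximal P hP.ne_top
    have hQp : Q.IsPrime := hQ.isPrime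
    have hlt : P < Q := lt_of_le_of_ne hPQ (fun h => hmax (h ▸ hQ))
    let o := IsLocalization.orderEmbedding (Submonoid.powers x) (Localization.Away x)
    let P' : Ideal C := P.comap (algebraMap C (Localization.Away x))
    let Q' : Ideal C := Q.comap (algebraMap C (Localization.Away x))
    have hlt' : P' < Q' := o.lt_iff_lt.2 hlt
    have hP'0 : (⊥ : Ideal C) < P' := by
      have h1 : o ⊥ < o P := o.lt_iff_lt.2 (bot_lt_iff_ne_bot.2 hP0)
      exact lt_of_le_of_lt bot_le h1
    have hxQ : x ∉ Q' := by
      intro h
      have h2 : IsUnit (algebraMap C (Localization.Away x) x) := IsLocalization.Away.algebraMap_isUnit x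
      exact hQp.ne_top (Ideal.eq_top_of_isUnit_mem Q h h2)
    have hP'p : P'.IsPrime := Ideal.IsPrime.comap _
    have hQ'p : Q'.IsPrime := Ideal.IsPrime.comap _
    have hQm : Q' < maximalIdeal C := by
      refine lt_of_le_of_ne (le_maximalIdeal hQ'p.ne_top) (fun h => hxQ (h ▸ hx))
    let s : LTSeries (PrimeSpectrum C) :=
      { length := 3
        toFun := ![⟨⊥, Ideal.isPrime_bot⟩, ⟨P', hP'p⟩, ⟨Q', hQ'p⟩, closedPoint C]
        step := by
          intro i
          fin_cases i
          · exact hP'0
          · exact hlt'
          · exact hQm }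
    have h3 : ((3 : ℕ) : WithBot ℕ∞) ≤ ringKrullDim C := Order.LTSeries.length_le_krullDim s
    have h4 := h3.trans hC
    have h5 : (3 : ℕ) ≤ 2 := by exact_mod_cast h4
    omega
  exact {}

end ded

section line

variable (V : Type u) [CommRing V] [IsDomain V] [IsLocalRing V] [IsPrincipalIdealRing V]

/-- The affine line. -/
noncomputable abbrev A1 (V : Type u) [CommRing V] : Scheme.{u} := Spec (CommRingCat.of (Polynomial V))

/-- The structure morphism of the affine line. -/
noncomputable abbrev strP (V : Type u) [CommRing V] : A1 V ⟶ Spec (CommRingCat.of V) :=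
  Spec.map (CommRingCat.ofHom (Polynomial.C : V →+* Polynomial V))

instance locallyOfFiniteType_strP (V : Type u) [CommRing V] : LocallyOfFiniteType (strP V) := by
  rw [HasRingHomProperty.Spec_iff (P := @LocallyOfFiniteType)]
  change (algebraMap V (Polynomial V)).FiniteType
  rw [RingHom.finiteType_algebraMap]
  infer_instance

/-- The origin of the special fibre of the affine line. -/
noncomputable def orig (V : Type u) [CommRing V] [IsLocalRing V] : A1 V :=
  Spec.map (CommRingCat.ofHom (Polynomial.evalRingHom (0 : V))) (closedPoint V)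

omit [IsDomain V] [IsPrincipalIdealRing V] in
theorem mem_orig (f : Polynomial V) : f ∈ (orig V).asIdeal ↔ f.eval 0 ∈ maximalIdeal V := Iff.rfl

omit [IsDomain V] [IsPrincipalIdealRing V] in
theorem X_mem_orig : (Polynomial.X : Polynomial V) ∈ (orig V).asIdeal := by
  rw [mem_orig, Polynomial.eval_X]
  exact Ideal.zero_mem _

omit [IsDomain V] [IsPrincipalIdealRing V] in
theorem strP_orig : strP V (orig V) = closedPoint V := by
  unfold orig
  rw [← Scheme.Hom.comp_apply, ← Spec.map_comp]
  have h : CommRingCat.ofHom (Polynomial.C : V →+* Polynomial V) ≫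
      CommRingCat.ofHom (Polynomial.evalRingHom (0 : V)) = 𝟙 (CommRingCat.of V) := by
    ext a
    simp
  rw [h, Spec.map_id]
  rfl

omit [IsDomain V] [IsPrincipalIdealRing V] in
/-- A point of the affine line over the closed point at which the coordinate vanishes is the origin. -/
theorem eq_orig (a : A1 V) (h1 : strP V a = closedPoint V) (h2 : (Polynomial.X : Polynomial V) ∈ a.asIdeal) :
    a = orig V := by
  have hle : (orig V).asIdeal ≤ a.asIdeal := by
    intro f hf
    rw [mem_orig] at hf
    have h3 : Polynomial.C (f.eval 0) ∈ a.asIdeal := by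
      have h4 : f.eval 0 ∈ (strP V a).asIdeal := by rw [h1]; exact hf
      exact h4
    have h5 : f = Polynomial.C (f.eval 0) + Polynomial.X * f.divX := by
      conv_lhs => rw [← Polynomial.X_mul_divX_add f]
      rw [Polynomial.coeff_zero_eq_eval_zero, add_comm]
    rw [h5]
    exact Ideal.add_mem _ h3 (Ideal.mul_mem_right _ _ h2)
  have hmax : (orig V).asIdeal.IsMaximal := by
    have h6 : Function.Surjective (Polynomial.evalRingHom (0 : V)) := fun r => ⟨Polynomial.C r, by simp⟩
    have h7 : (closedPoint V).asIdeal.IsMaximal := inferInstanceAs (maximalIdeal V).IsMaximal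
    exact Ideal.comap_isMaximal_of_surjective (Polynomial.evalRingHom (0 : V)) h6
  exact (PrimeSpectrum.ext (hmax.eq_of_le a.2.ne_top hle)).symm

/-- the stalk of the affine line at the origin -/
noncomputable abbrev stk : CommRingCat.{u} := (A1 V).presheaf.stalk (orig V)

/-- the coordinate ring maps to the stalk -/
noncomputable abbrev toStk : Polynomial V →+* stk V := (StructureSheaf.toStalk (Polynomial V) (orig V)).hom

theorem stk_facts : IsDomain (stk V) ∧ IsIntegrallyClosed (stk V) ∧ IsNoetherianRing (stk V) ∧
    ringKrullDim (stk V) ≤ 2 ∧ Function.Injective (toStk V) := by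
  let _ : Algebra (Polynomial V) (stk V) := (toStk V).toAlgebra
  have hp : (orig V).asIdeal.IsPrime := (orig V).2
  have hloc : IsLocalization.AtPrime (stk V) (orig V).asIdeal :=
    StructureSheaf.IsLocalization.to_stalk (Polynomial V) (orig V)
  have hle := (orig V).asIdeal.primeCompl_le_nonZeroDivisors
  have hD : IsDomain (stk V) := IsLocalization.isDomain_of_le_nonZeroDivisors (stk V) hle
  refine ⟨hD, ?_, ?_, ?_, ?_⟩
  · exact isIntegrallyClosed_of_isLocalization (stk V) (orig V).asIdeal.primeCompl hle
  · exact IsLocalization.isNoetherianRing (orig V).asIdeal.primeCompl _ inferInstance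
  · rw [IsLocalization.AtPrime.ringKrullDim_eq_height (orig V).asIdeal]
    have h1 := Ideal.height_le_ringKrullDim_of_ne_top (I := (orig V).asIdeal) hp.ne_top
    refine h1.trans ?_
    rw [Polynomial.ringKrullDim_of_isNoetherianRing]
    have h2 : ringKrullDim V ≤ 1 := by
      have := IsPrincipalIdealRing.krullDimLE_one V
      rwa [Ring.krullDimLE_iff] at this
    calc ringKrullDim V + 1 ≤ 1 + 1 := by gcongr
      _ = 2 := by norm_num
  · exact IsLocalization.injective _ hle

variable (C : Type u) [CommRing C] [IsLocalRing C] [Algebra (stk V) C] [IsLocalHom (algebraMap (stk V) C)]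
  [Hensel.IsStrictHenselization (stk V) C]

/-- the coordinate on `C` -/
noncomputable abbrev xC : C := algebraMap (stk V) C (toStk V Polynomial.X)

theorem C_facts : IsDomain C ∧ IsIntegrallyClosed C ∧ IsNoetherianRing C ∧ ringKrullDim C ≤ 2 ∧
    Function.Injective (algebraMap (stk V) C) := by
  obtain ⟨h1, h2, h3, h4, h5⟩ := stk_facts V
  obtain ⟨hD, hI⟩ := (Groth.Agent.S2748.result (stk V) C).2 ⟨h1, h2⟩
  have hN := (Groth.Agent.S0540.result (stk V) C).1 h3
  have hd := Groth.Agent.S0541.result (stk V) C
  have hff := Groth.Agent.S0539.result (stk V) C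
  exact ⟨hD, hI, hN, hd ▸ h4, FaithfulSMul.algebraMap_injective _ C⟩

theorem xC_mem : xC V C ∈ maximalIdeal C := by
  have h1 : toStk V Polynomial.X ∈ maximalIdeal (stk V) := by
    let _ : Algebra (Polynomial V) (stk V) := (toStk V).toAlgebra
    have hp : (orig V).asIdeal.IsPrime := (orig V).2
    have hloc : IsLocalization.AtPrime (stk V) (orig V).asIdeal :=
      StructureSheaf.IsLocalization.to_stalk (Polynomial V) (orig V)
    exact (IsLocalization.AtPrime.to_map_mem_maximal_iff (stk V) (orig V).asIdeal Polynomial.X).2 (X_mem_orig V)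
  have h2 := ((IsLocalRing.local_hom_TFAE (algebraMap (stk V) C)).out 0 3).1 ‹IsLocalHom (algebraMap (stk V) C)›
  exact h2 h1

theorem xC_ne_zero : xC V C ≠ 0 := by
  obtain ⟨h1, h2, h3, h4, h5⟩ := stk_facts V
  obtain ⟨-, -, -, -, h6⟩ := C_facts V C
  intro h
  have h7 : toStk V Polynomial.X = 0 := h6 (h.trans (map_zero _).symm)
  have h8 : (Polynomial.X : Polynomial V) = 0 := h5 (h7.trans (map_zero _).symm)
  exact Polynomial.X_ne_zero h8

theorem isDedekindDomain_line : IsDedekindDomain (Localization.Away (xC V C)) := by
  obtain ⟨h1, h2, h3, h4, -⟩ := C_facts V C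
  exact dedekind_of_two C h4 _ (xC_mem V C) (xC_ne_zero V C)

end line

end K337.ArtA
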