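import Groth.Agent.EtDual.K337.LineAlg
import Groth.Agent.EtpbcA.ArtinField

/-!
# The punctured strict localization of the affine line: cohomological dimension and dimension function
-/

set_option autoImplicit false
set_option linter.unusedSectionVars false
universe u
open CategoryTheory CategoryTheory.Limits AlgebraicGeometry Opposite IsLocalRing
open Groth.Agent.CycB.RelDim Groth.Agent.CycB.TrdegAlg
open Groth.Agent.EtpbcA Groth.Agent.EtpbcA.Artin

namespace K337.ArtA

theorem isFractionRing_of_fracGen {C L : Type u} [CommRing C] [Field L] (ψ : C →+* L) (h : FracGen ψ) :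
    letI := (RingHom.kerLift ψ).toAlgebra
    IsFractionRing (C ⧸ RingHom.ker ψ) L := by
  let _ : Algebra (C ⧸ RingHom.ker ψ) L := (RingHom.kerLift ψ).toAlgebra
  have : FaithfulSMul (C ⧸ RingHom.ker ψ) L :=
    (faithfulSMul_iff_algebraMap_injective _ _).2 (RingHom.kerLift_injective ψ)
  refine IsFractionRing.of_field (C ⧸ RingHom.ker ψ) L fun z => ?_
  obtain ⟨a, b, hb, hab⟩ := h z
  refine ⟨Ideal.Quotient.mk _ a, Ideal.Quotient.mk _ b, ?_⟩
  change z = ψ a / ψ b
  rw [eq_div_iff hb, hab]

theorem fracGen_localization {C R L : Type u} [CommRing C] [CommRing R] [Algebra C R] (M : Submonoid C)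
    [IsLocalization M R] [Field L] (ψ : R →+* L) (h : FracGen ψ) : FracGen (ψ.comp (algebraMap C R)) := by
  intro z
  obtain ⟨a, b, hb, hab⟩ := h z
  obtain ⟨⟨c, s⟩, hc⟩ := IsLocalization.surj M a
  obtain ⟨⟨c', s'⟩, hc'⟩ := IsLocalization.surj M b
  have hs : ψ (algebraMap C R s) ≠ 0 := ((IsLocalization.map_units R s).map ψ).ne_zero
  have hs' : ψ (algebraMap C R s') ≠ 0 := ((IsLocalization.map_units R s').map ψ).ne_zero
  have h1 : ψ a * ψ (algebraMap C R s) = ψ (algebraMap C R c) := by rw [← map_mul]; exact congrArg ψ hc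
  have h2 : ψ b * ψ (algebraMap C R s') = ψ (algebraMap C R c') := by rw [← map_mul]; exact congrArg ψ hc'
  refine ⟨c * s', c' * s, ?_, ?_⟩
  · rw [RingHom.comp_apply, map_mul, map_mul, ← h2]
    exact mul_ne_zero (mul_ne_zero hb hs') hs
  · rw [RingHom.comp_apply, map_mul, map_mul, RingHom.comp_apply, map_mul, map_mul, ← h2, ← h1, ← hab]
    ring

section line

variable (V : Type u) [CommRing V] [IsDomain V] [IsLocalRing V] [IsPrincipalIdealRing V]
variable (C : Type u) [CommRing C] [IsLocalRing C] [Algebra (stk V) C] [IsLocalHom (algebraMap (stk V) C)]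
  [Hensel.IsStrictHenselization (stk V) C]

/-- The base `B`. -/
noncomputable abbrev Bl : Scheme.{u} := Spec (CommRingCat.of (Localization.Away (xC V C)))

/-- `B ⟶ Spec C` -/
noncomputable abbrev iB : Bl V C ⟶ Spec (CommRingCat.of C) :=
  Spec.map (CommRingCat.ofHom (algebraMap C (Localization.Away (xC V C))))

/-- `B ⟶ A¹` -/
noncomputable abbrev bA : Bl V C ⟶ A1 V := iB V C ≫ Hens2.specOf (A1 V) (orig V) C

omit [IsDomain V] [IsPrincipalIdealRing V] [IsLocalRing C] [IsLocalHom (algebraMap (stk V) C)]
  [Hensel.IsStrictHenselization (stk V) C] in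
theorem X_notMem_bA (b : Bl V C) : (Polynomial.X : Polynomial V) ∉ (bA V C b).asIdeal := by
  have h1 : bA V C = Spec.map (CommRingCat.ofHom ((algebraMap C (Localization.Away (xC V C))).comp
      ((algebraMap (stk V) C).comp (toStk V)))) := by
    unfold bA Hens2.specOf
    rw [Spec.fromSpecStalk_eq']
    exact ((congrArg (iB V C ≫ ·) (Spec.map_comp _ _).symm).trans (Spec.map_comp _ _).symm)
  rw [h1]
  change ¬ ((algebraMap C (Localization.Away (xC V C))) (xC V C) ∈ b.asIdeal)
  intro h
  exact b.2.ne_top (Ideal.eq_top_of_isUnit_mem _ h (IsLocalization.Away.algebraMap_isUnit (xC V C)))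

omit [IsDomain V] [IsPrincipalIdealRing V] [Hensel.IsStrictHenselization (stk V) C] in
theorem bA_specializes (b : Bl V C) : bA V C b ⤳ orig V := by
  have h1 : iB V C b ⤳ closedPoint C := IsLocalRing.specializes_closedPoint _
  have h2 := h1.map (Hens2.specOf (A1 V) (orig V) C).continuous
  rw [specOf_closedPoint] at h2
  exact h2

/-- The dimension function on `B`. -/
noncomputable def φl (b : Bl V C) : ℕ := dl (φc V) (strP V) (bA V C b)

theorem one_le_φl (b : Bl V C) : 1 ≤ φl V C b := by
  unfold φl dl
  by_cases h : strP V (bA V C b) = closedPoint V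
  · have h1 : bA V C b ≠ orig V := by
      intro h2
      apply X_notMem_bA V C b
      rw [h2]
      exact X_mem_orig V
    have h2 := rtd_lt_of_specializes (strP V) (bA_specializes V C b) h1 (h.trans (strP_orig V).symm)
    have h3 : 0 < nrt (strP V) (bA V C b) := by
      rw [← natCast_nrt, ← natCast_nrt] at h2
      have h4 : nrt (strP V) (orig V) < nrt (strP V) (bA V C b) := by exact_mod_cast h2
      omega
    omega
  · rw [φc_of_ne V _ h]
    omega

theorem two_le_φl (hV : ¬ IsField V)
    (b : Bl V C) (hb : (bA V C b).asIdeal = ⊥) : 2 ≤ φl V C b := by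
  unfold φl dl
  have h1 : (strP V (bA V C b)).asIdeal = ⊥ := by
    change Ideal.comap (Polynomial.C : V →+* Polynomial V) (bA V C b).asIdeal = ⊥
    rw [hb]
    exact (RingHom.injective_iff_ker_eq_bot _).1 Polynomial.C_injective
  have h2 : strP V (bA V C b) ≠ closedPoint V := by
    intro h
    apply hV
    rw [IsLocalRing.isField_iff_maximalIdeal_eq, ← h1, h]
    rfl
  rw [φc_of_ne V _ h2]
  -- the zero section of the generic fibre
  let a : A1 V := (⟨Ideal.span {Polynomial.X}, (Ideal.span_singleton_prime Polynomial.X_ne_zero).2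
    Polynomial.prime_X⟩ : PrimeSpectrum (Polynomial V))
  have h3 : bA V C b ⤳ a := (PrimeSpectrum.le_iff_specializes _ _).1 (by
    change (bA V C b).asIdeal ≤ _
    rw [hb]; exact bot_le)
  have h4 : bA V C b ≠ a := by
    intro h
    apply X_notMem_bA V C b
    rw [h]
    exact Ideal.mem_span_singleton_self _
  have h5 : strP V (bA V C b) = strP V a := by
    apply PrimeSpectrum.ext
    rw [h1]
    symm
    change Ideal.comap (Polynomial.C : V →+* Polynomial V) (Ideal.span {Polynomial.X}) = ⊥
    rw [eq_bot_iff]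
    intro r hr
    rw [Ideal.mem_comap, Ideal.mem_span_singleton, Polynomial.X_dvd_iff, Polynomial.coeff_C_zero] at hr
    exact hr
  have h6 := rtd_lt_of_specializes (strP V) h3 h4 h5
  rw [← natCast_nrt, ← natCast_nrt] at h6
  have h7 : nrt (strP V) a < nrt (strP V) (bA V C b) := by exact_mod_cast h6
  omega

theorem bA_gpt [IsDomain (Localization.Away (xC V C))] :
    (bA V C (gpt (Localization.Away (xC V C)))).asIdeal = ⊥ := by
  obtain ⟨h1, h2, h3, h4, h5⟩ := stk_facts V
  obtain ⟨h6, -, -, -, h7⟩ := C_facts V C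
  have h8 : Function.Injective (algebraMap C (Localization.Away (xC V C))) :=
    IsLocalization.injective _ (powers_le_nonZeroDivisors_of_noZeroDivisors (xC_ne_zero V C))
  have h9 : bA V C = Spec.map (CommRingCat.ofHom ((algebraMap C (Localization.Away (xC V C))).comp
      ((algebraMap (stk V) C).comp (toStk V)))) := by
    unfold bA Hens2.specOf
    rw [Spec.fromSpecStalk_eq']
    exact ((congrArg (iB V C ≫ ·) (Spec.map_comp _ _).symm).trans (Spec.map_comp _ _).symm)
  rw [h9]
  exact (RingHom.injective_iff_ker_eq_bot _).1 (h8.comp (h7.comp h5))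

/-- the residue fields of the closed points of `B` have cohomological dimension at most one -/
theorem cd_residueField [IsDomain (Localization.Away (xC V C))] {ℓ : ℕ} (hℓ : ℓ.Prime) (hu : IsUnit (ℓ : V))
    (b : Bl V C) (hb : b ≠ gpt (Localization.Away (xC V C))) :
    _root_.Dix.CohDimLEAt (Spec ((Bl V C).residueField b)) ℓ 1 := by
  obtain ⟨h1, h2, h3, h4, h5⟩ := stk_facts V
  obtain ⟨h6, -, -, -, h7⟩ := C_facts V C
  let L : Type u := (Bl V C).residueField b
  let ψ : C →+* L := (evS (CommRingCat.of (Localization.Away (xC V C))) b).comp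
    (algebraMap C (Localization.Away (xC V C)))
  have hψ : FracGen ψ := fracGen_localization (Submonoid.powers (xC V C)) _ (fracGen_evS _ b)
  let _ : Algebra (C ⧸ RingHom.ker ψ) L := (RingHom.kerLift ψ).toAlgebra
  have hfr : IsFractionRing (C ⧸ RingHom.ker ψ) L := isFractionRing_of_fracGen ψ hψ
  have hP : (RingHom.ker ψ).IsPrime := RingHom.ker_isPrime ψ
  have hker : RingHom.ker ψ = b.asIdeal.comap (algebraMap C (Localization.Away (xC V C))) := by
    rw [← RingHom.comap_ker, ← ker_evS]
  have hne : RingHom.ker ψ ≠ ⊥ := by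
    rw [hker]
    intro h
    apply hb
    apply PrimeSpectrum.ext
    have h8 : Ideal.map (algebraMap C (Localization.Away (xC V C)))
        (Ideal.comap (algebraMap C (Localization.Away (xC V C))) b.asIdeal) = b.asIdeal :=
      IsLocalization.map_under (Submonoid.powers (xC V C)) (Localization.Away (xC V C)) b.asIdeal
    rw [h, Ideal.map_bot] at h8
    exact h8.symm
  -- a nonzero element in the contraction to the stalk
  have hne2 : (RingHom.ker ψ).comap (algebraMap (stk V) C) ≠ ⊥ := by
    obtain ⟨c, hc, hc0⟩ := Submodule.exists_mem_ne_zero_of_ne_bot hne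
    refine Ideal.comap_ne_bot_of_algebraic_mem hc0 hc ?_
    have h14 : Function.Injective (algebraMap (stk V) (FractionRing C)) := by
      rw [IsScalarTower.algebraMap_eq (stk V) C (FractionRing C)]
      exact (IsFractionRing.injective C (FractionRing C)).comp h7
    have h9 := isAlgebraic_of_isStrictHenselization (stk V) C (FractionRing C) h14 c
    exact (isAlgebraic_algebraMap_iff (IsFractionRing.injective C (FractionRing C))).1 h9
  refine Groth.Agent.Etbc.H208.UpperSch.upper_of_quotient V (A1 V) (strP V) hℓ (orig V) ?_ C (RingHom.ker ψ) L 1 ?_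
  · have hu2 : IsUnit (ℓ : (A1 V).residueField (orig V)) := isUnit_natCast_of_ringHom
      ((IsLocalRing.residue (stk V)).comp ((toStk V).comp Polynomial.C)) hu
    exact hu2.ne_zero
  · obtain ⟨r, hr, hr0⟩ := Submodule.exists_mem_ne_zero_of_ne_bot hne2
    have h10 : ringKrullDim (stk V ⧸ (RingHom.ker ψ).comap (algebraMap (stk V) C)) ≤
        ringKrullDim (stk V ⧸ Ideal.span {r}) := by
      refine ringKrullDim_le_of_surjective (Ideal.Quotient.factor ((Ideal.span_singleton_le_iff_mem _).2 hr)) ?_
      exact Ideal.Quotient.factor_surjective _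
    have h11 := ringKrullDim_quotient_succ_le_of_nonZeroDivisor (mem_nonZeroDivisors_of_ne_zero hr0)
    have h12 := h11.trans h4
    refine h10.trans ?_
    have h13 : ringKrullDim (stk V ⧸ Ideal.span {r}) + 1 ≤ ((1 : ℕ) : WithBot ℕ∞) + 1 := by
      refine h12.trans (le_of_eq ?_)
      norm_num
    exact (ENat.WithBot.add_le_add_one_right_iff).1 h13

end line

end K337.ArtA
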