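import Groth.Agent.EtDual.K337.LineCd

/-!
# Affine vanishing: localization at a function, over a discrete valuation ring
-/

set_option autoImplicit false
set_option linter.unusedSectionVars false
universe u
open CategoryTheory CategoryTheory.Limits AlgebraicGeometry Opposite IsLocalRing
open Groth.Agent.EtpbcA Groth.Agent.EtpbcA.Artin

namespace K337.ArtA

/-- The two-dimensional case: `cd_ℓ (Spec C[1/X]) ≤ 2` for the strict localization `C` of the affine line over a
strictly henselian discrete valuation ring. -/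
def KeyB (ℓ : ℕ) : Prop :=
  ∀ (V : Type u) [CommRing V] [IsDomain V] [HenselianLocalRing V] [IsPrincipalIdealRing V]
    [IsSepClosed (ResidueField V)] (_ : IsUnit (ℓ : V)) (_ : ¬ IsField V)
    (C : Type u) [CommRing C] [IsLocalRing C] [Algebra (stk V) C] [IsLocalHom (algebraMap (stk V) C)]
    [Hensel.IsStrictHenselization (stk V) C], _root_.Dix.CohDimLEAt (Bl V C) ℓ 2

section

variable {ℓ : ℕ} (V : Type u) [CommRing V] [IsDomain V] [HenselianLocalRing V] [IsPrincipalIdealRing V]
  [IsSepClosed (ResidueField V)]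
  (C : Type u) [CommRing C] [IsLocalRing C] [Algebra (stk V) C] [IsLocalHom (algebraMap (stk V) C)]
  [Hensel.IsStrictHenselization (stk V) C]

theorem QB_Bl (hℓ : ℓ.Prime) (hu : IsUnit (ℓ : V)) (hV : ¬ IsField V) (hK : KeyB.{u} ℓ) (n : ℕ)
    (hQ : ∀ m, m < n → QA.{u} ℓ m) : QB ℓ (φl V C) n := by
  have hDed := isDedekindDomain_line V C
  have hg : 2 ≤ φl V C (gpt (Localization.Away (xC V C))) := two_le_φl V C hV _ (bA_gpt V C)
  have hu' : IsUnit (ℓ : Γ(Bl V C, ⊤)) := isUnit_natCast_of_ringHom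
    ((Scheme.ΓSpecIso (CommRingCat.of (Localization.Away (xC V C)))).inv.hom.comp
      ((algebraMap C (Localization.Away (xC V C))).comp ((algebraMap (stk V) C).comp
        ((toStk V).comp Polynomial.C)))) hu
  refine QB_of_line (φl V C) hu' {b | b ≠ gpt (Localization.Away (xC V C))} ?_ ?_ ?_ ?_ n hQ
  · exact locPID_one _ _ (one_le_φl V C) hg
  · intro b hb
    have hb' : b = gpt (Localization.Away (xC V C)) := by
      by_contra h
      exact hb h
    rw [hb']
    exact locPID_two _ _ hg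
  · intro G hG hs p hp
    exact H_subsingleton_of_supp_closed (Localization.Away (xC V C)) (d := 1)
      (fun b hb => cd_residueField V C hℓ hu b hb) G hG hs p (by omega)
  · exact hK V hu hV C

/-- `j : D(t) → Y`, `t(z) = 0`, `z` in the special fibre: `R^q j_* F` vanishes at `z` for `q > dim F`. -/
theorem not_mem_supp_Rpush_localization (n : ℕ) (hQB : QB ℓ (φl V C) n) {U Y : Scheme.{u}} [IsAffine Y]
    (aY : Y ⟶ Spec (CommRingCat.of V)) [LocallyOfFiniteType aY] (j : U ⟶ Y) [IsOpenImmersion j]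
    (t : Γ(Y, ⊤)) (hj : Set.range j = Y.basicOpen t) (z : Y) (hz : z ∉ Y.basicOpen t)
    (hz0 : aY z = closedPoint V)
    (F : EtCoh.Ab U) (hF : _root_.Dix.IsPrimaryTorsion ℓ F)
    (hs : ∀ x ∈ EtPBC.supp F, dl (φc V) (j ≫ aY) x ≤ n) (q : ℕ) (hq : n < q) :
    z ∉ EtPBC.supp ((EtCoh.Rpush j q).obj F) := by
  let g : V →+* Γ(Y, ⊤) := (Spec.preimage (Y.isoSpec.inv ≫ aY)).hom
  have hg : Y.toSpecΓ ≫ Spec.map (CommRingCat.ofHom g) = aY := by
    have : Spec.map (CommRingCat.ofHom g) = Y.isoSpec.inv ≫ aY := by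
      rw [CommRingCat.ofHom_hom, Spec.map_preimage]
    rw [this, ← Category.assoc, Scheme.toSpecΓ_isoSpec_inv, Category.id_comp]
  let θ : Polynomial V →+* Γ(Y, ⊤) := Polynomial.eval₂RingHom g t
  let T : Y ⟶ A1 V := Y.toSpecΓ ≫ Spec.map (CommRingCat.ofHom θ)
  have hT : T ≫ strP V = aY := by
    change (Y.toSpecΓ ≫ Spec.map (CommRingCat.ofHom θ)) ≫ Spec.map (CommRingCat.ofHom Polynomial.C) = aY
    rw [Category.assoc, ← Spec.map_comp]
    have : CommRingCat.ofHom (Polynomial.C : V →+* Polynomial V) ≫ CommRingCat.ofHom θ =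
        CommRingCat.ofHom g := by
      ext r
      simp [θ]
    rw [this, hg]
  have hTX : ∀ y : Y, (Polynomial.X : Polynomial V) ∉ (T y).asIdeal ↔ y ∈ Y.basicOpen t := by
    intro y
    have h1 : y ∈ Y.basicOpen t ↔ y ∈ Y.toSpecΓ ⁻¹ᵁ (PrimeSpectrum.basicOpen t) := by
      rw [Scheme.toSpecΓ_preimage_basicOpen]
    rw [h1]
    change ¬ (θ Polynomial.X ∈ (Y.toSpecΓ y).asIdeal) ↔ ¬ (t ∈ (Y.toSpecΓ y).asIdeal)
    have h2 : θ Polynomial.X = t := by simp [θ]
    rw [h2]
  have hTz : T z = orig V := by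
    refine eq_orig V (T z) ?_ ?_
    · rw [← Scheme.Hom.comp_apply, hT]; exact hz0
    · by_contra h
      exact hz ((hTX z).1 h)
  have hTft : LocallyOfFiniteType T := by
    have : LocallyOfFiniteType (T ≫ strP V) := by rw [hT]; infer_instance
    exact locallyOfFiniteType_of_comp T (strP V)
  let sp := Hens2.specOf (A1 V) (orig V) C
  let S : Scheme.{u} := pullback (j ≫ T) sp
  let gX : S ⟶ U := pullback.fst (j ≫ T) sp
  let sX : S ⟶ Spec (CommRingCat.of C) := pullback.snd (j ≫ T) sp
  have hS : IsPullback gX sX (j ≫ T) sp := IsPullback.of_hasPullback _ _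
  have hopen : IsOpenImmersion (iB V C) :=
    inferInstanceAs (IsOpenImmersion (Spec.map (CommRingCat.ofHom (algebraMap C (Localization.Away (xC V C))))))
  have hspec : sp = Spec.map (CommRingCat.ofHom ((algebraMap (stk V) C).comp (toStk V))) := by
    change Spec.map _ ≫ (A1 V).fromSpecStalk (orig V) = _
    rw [Spec.fromSpecStalk_eq']
    exact (Spec.map_comp _ _).symm
  have hsX : Set.range sX ⊆ Set.range (iB V C) := by
    rintro _ ⟨s, rfl⟩
    have h1 : sp (sX s) = T (j (gX s)) := by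
      rw [← Scheme.Hom.comp_apply, ← hS.w, Scheme.Hom.comp_apply, Scheme.Hom.comp_apply]
    have h2 : j (gX s) ∈ Y.basicOpen t := by
      have : j (gX s) ∈ Set.range j := ⟨_, rfl⟩
      rwa [hj] at this
    have h3 : (Polynomial.X : Polynomial V) ∉ (sp (sX s)).asIdeal := by
      rw [h1]; exact (hTX _).2 h2
    rw [hspec] at h3
    have h4 : xC V C ∉ (sX s).asIdeal := h3
    have h5 : Set.range (iB V C) = (PrimeSpectrum.basicOpen (xC V C) : Set (PrimeSpectrum C)) :=
      PrimeSpectrum.localization_away_comap_range (Localization.Away (xC V C)) (xC V C)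
    rw [h5]
    exact h4
  let cX : S ⟶ Bl V C := IsOpenImmersion.lift (iB V C) sX hsX
  have hcX : cX ≫ iB V C = sX := IsOpenImmersion.lift_fac (iB V C) sX hsX
  have hUa : IsAffine U := by
    have h1 : IsAffineOpen (Y.basicOpen t) := (isAffineOpen_top Y).basicOpen t
    have h2 : j.opensRange = Y.basicOpen t := TopologicalSpace.Opens.ext hj
    have h3 : IsAffine j.opensRange := by rw [h2]; exact h1
    exact IsAffine.of_isIso j.isoOpensRange.hom
  have hja : IsAffineHom j := inferInstance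
  refine not_mem_supp_Rpush_of_strict (B := Bl V C) (dl (φc V) (strP V)) (φl V C) 0 n q j T (orig V) C (iB V C)
    (fun b => ?_) (fun b => ?_) gX cX ?_ ?_ z hTz F hF ?_ ?_ (by omega)
  · exact AlgAt.comp (algAt_of_surjectiveOnStalks _ _) (algAt_specOf _ _ _ _)
  · exact le_of_eq (add_zero _)
  · rw [hcX]; exact hS
  · apply isPullback_comp_of_mono
    rw [hcX]; exact hS
  · intro x hx
    rw [← dl_comp, Category.assoc, hT]
    exact hs x hx
  · intro _
    exact hQB

end

end K337.ArtA
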