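import Groth.Agent.EtDual.K337.Coord
import Groth.Agent.Etbc.H208.PidCat
import Groth.Agent.Etbc.H208.LocalSub
import Groth.Agent.S0555
import Mathlib.RingTheory.KrullDimension.PID

/-!
# The dimension function near a point

`exists_nhd_dl`: for `Y` locally of finite type over a local principal ideal domain and `dim O_{Y,y} ≤ d`,
the dimension function is at most `d + δ(y)` near `y`.
-/

set_option autoImplicit false
set_option linter.unusedSectionVars false
universe u
open CategoryTheory CategoryTheory.Limits AlgebraicGeometry Opposite IsLocalRing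
open Groth.Agent.CycB.RelDim Groth.Agent.CycB.TrdegAlg
open Groth.Agent.EtpbcA.Artin

namespace K337.ArtA

section ring

variable (V : Type u) [CommRing V] [IsDomain V] [IsLocalRing V] [IsPrincipalIdealRing V]

/-- The dimension formula for two primes. -/
theorem dim_formula {S : CommRingCat.{u}} (φ : CommRingCat.of V ⟶ S) [LocallyOfFiniteType (Spec.map φ)]
    (x y : Spec S) (hxy : x ⤳ y) :
    ∃ h k : ℕ, nrt (Spec.map φ) y + h = k + nrt (Spec.map φ) x ∧
      (h : WithBot ℕ∞) ≤ ringKrullDim ((Spec S).presheaf.stalk y) ∧ k ≤ 1 ∧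
      (k = 0 → Spec.map φ x = Spec.map φ y) ∧ (1 ≤ k → Spec.map φ x ≠ Spec.map φ y) := by
  have hP : x.asIdeal.IsPrime := x.2
  have hle : x.asIdeal ≤ y.asIdeal := (PrimeSpectrum.le_iff_specializes x y).2 hxy
  let vP : Ideal V := (Spec.map φ x).asIdeal
  have hvP : vP.IsPrime := (Spec.map φ x).2
  have hvle : vP ≤ x.asIdeal.comap φ.hom := le_rfl
  let R : Type u := V ⧸ vP
  let T : Type u := S ⧸ x.asIdeal
  let g : R →+* T := Ideal.quotientMap x.asIdeal φ.hom hvle
  have hg : Function.Injective g := quotientMap_injective_of_eq φ.hom vP x.asIdeal rfl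
  have hft0 : φ.hom.FiniteType := (HasRingHomProperty.Spec_iff (P := @LocallyOfFiniteType)).1 inferInstance
  have hft : g.FiniteType := quotientMap_finiteType φ.hom hft0 vP x.asIdeal hvle
  let _ : Algebra R T := g.toAlgebra
  have : Algebra.FiniteType R T := hft
  have : FaithfulSMul R T := (faithfulSMul_iff_algebraMap_injective R T).2 hg
  have : IsPrincipalIdealRing R := IsPrincipalIdealRing.of_surjective (Ideal.Quotient.mk vP) Ideal.Quotient.mk_surjective
  have hcat : CAlg.IsUniversallyCatenary R := Groth.Agent.Etbc.H208.PidCat.isUniversallyCatenary_pid R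
  -- geometry
  let iV : Spec (CommRingCat.of R) ⟶ Spec (CommRingCat.of V) := Spec.map (CommRingCat.ofHom (Ideal.Quotient.mk vP))
  let iS : Spec (CommRingCat.of T) ⟶ Spec S := Spec.map (CommRingCat.ofHom (Ideal.Quotient.mk x.asIdeal))
  have hiV : IsClosedImmersion iV := IsClosedImmersion.spec_of_surjective _ Ideal.Quotient.mk_surjective
  have hiS : IsClosedImmersion iS := IsClosedImmersion.spec_of_surjective _ Ideal.Quotient.mk_surjective
  let gg : Spec (CommRingCat.of T) ⟶ Spec (CommRingCat.of R) := Spec.map (CommRingCat.ofHom g)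
  have hcomm : gg ≫ iV = iS ≫ Spec.map φ := by
    change Spec.map _ ≫ Spec.map _ = Spec.map _ ≫ Spec.map _
    rw [← Spec.map_comp, ← Spec.map_comp]
    congr 1
  have hrange : Set.range iS = {z | x.asIdeal ≤ z.asIdeal} := by
    have h1 := range_comap_of_surjective T (Ideal.Quotient.mk x.asIdeal) Ideal.Quotient.mk_surjective
    refine (show Set.range iS = Set.range (PrimeSpectrum.comap (Ideal.Quotient.mk x.asIdeal)) from rfl).trans ?_
    rw [h1, Ideal.mk_ker]
    rfl
  obtain ⟨q, hq⟩ : y ∈ Set.range iS := by rw [hrange]; exact hle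
  let o : Spec (CommRingCat.of T) := (⟨⊥, Ideal.isPrime_bot⟩ : PrimeSpectrum T)
  have ho : iS o = x := by
    apply PrimeSpectrum.ext
    change Ideal.comap (Ideal.Quotient.mk x.asIdeal) ⊥ = x.asIdeal
    rw [← RingHom.ker_eq_comap_bot, Ideal.mk_ker]
  have hn : ∀ z : Spec (CommRingCat.of T), nrt gg z = nrt (Spec.map φ) (iS z) := by
    intro z
    rw [← nrt_comp_of_algAt_right gg iV z (algAt_of_surjectiveOnStalks _ _), hcomm,
      nrt_comp_of_algAt_left _ _ z (algAt_of_surjectiveOnStalks _ _)]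
  have hlt : Algebra.trdeg R T < Cardinal.aleph0 := trdeg_lt_aleph0_of_finiteType
  obtain ⟨t, ht⟩ := Cardinal.lt_aleph0.1 hlt
  have hNT : IsNoetherianRing T := Algebra.FiniteType.isNoetherianRing R T
  have key : ∀ z : Spec (CommRingCat.of T), ∃ a b : ℕ, z.asIdeal.height = (a : ℕ∞) ∧
      (gg z).asIdeal.height = (b : ℕ∞) ∧ a + nrt gg z = b + t := by
    intro z
    have hz : z.asIdeal.IsPrime := z.2
    have hz' : (gg z).asIdeal.IsPrime := (gg z).2
    have hlo : z.asIdeal.LiesOver (gg z).asIdeal := ⟨rfl⟩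
    have h1 := Groth.Agent.S0555.result R hcat T (gg z).asIdeal z.asIdeal
    obtain ⟨a, ha⟩ : ∃ a : ℕ, z.asIdeal.height = a :=
      ENat.ne_top_iff_exists.1 (z.asIdeal.height_ne_top hz.ne_top) |>.imp fun _ h => h.symm
    obtain ⟨b, hb⟩ : ∃ b : ℕ, (gg z).asIdeal.height = b :=
      ENat.ne_top_iff_exists.1 ((gg z).asIdeal.height_ne_top hz'.ne_top) |>.imp fun _ h => h.symm
    refine ⟨a, b, ha, hb, ?_⟩
    have h2 : Algebra.trdeg (R ⧸ (gg z).asIdeal) (T ⧸ z.asIdeal) = rtd gg z := by
      rw [rtd_specMap (CommRingCat.ofHom g) z (gg z).asIdeal rfl le_rfl]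
      rfl
    have hlft : LocallyOfFiniteType gg := by
      rw [HasRingHomProperty.Spec_iff (P := @LocallyOfFiniteType)]
      exact hft
    rw [h2, ← natCast_nrt, ht, ha, hb] at h1
    exact_mod_cast h1
  obtain ⟨a, b, ha, hb, hab⟩ := key q
  obtain ⟨a0, b0, ha0, hb0, hab0⟩ := key o
  have hgo : (gg o).asIdeal = ⊥ := (RingHom.injective_iff_ker_eq_bot _).1 hg
  have ha00 : a0 = 0 := by
    have : (⊥ : Ideal T).height = 0 := Ideal.height_bot
    have h3 : o.asIdeal = ⊥ := rfl
    rw [h3, this] at ha0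
    exact_mod_cast ha0.symm
  have hb00 : b0 = 0 := by
    have : (⊥ : Ideal R).height = 0 := Ideal.height_bot
    rw [hgo, this] at hb0
    exact_mod_cast hb0.symm
  have hbR : b ≤ 1 := by
    have h4 : ((gg q).asIdeal.height : WithBot ℕ∞) ≤ ringKrullDim R :=
      Ideal.height_le_ringKrullDim_of_ne_top (gg q).2.ne_top
    have h5 : ringKrullDim R ≤ 1 := by
      have := IsPrincipalIdealRing.krullDimLE_one R
      rwa [Ring.krullDimLE_iff] at this
    have h6 := h4.trans h5
    rw [hb] at h6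
    exact_mod_cast h6
  have hcx : ∀ z, Spec.map φ (iS z) = iV (gg z) := fun z => by
    rw [← Scheme.Hom.comp_apply, ← hcomm, Scheme.Hom.comp_apply]
  have hxq : Spec.map φ x = iV (gg o) := (congrArg (Spec.map φ) ho.symm).trans (hcx o)
  have hyq : Spec.map φ y = iV (gg q) := (congrArg (Spec.map φ) hq.symm).trans (hcx q)
  have hnx : nrt (Spec.map φ) x = nrt gg o := (congrArg (nrt (Spec.map φ)) ho.symm).trans (hn o).symm
  have hny : nrt (Spec.map φ) y = nrt gg q := (congrArg (nrt (Spec.map φ)) hq.symm).trans (hn q).symm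
  refine ⟨a, b, ?_, ?_, hbR, ?_, ?_⟩
  · rw [hnx, hny]
    omega
  · have h7 : (q.asIdeal.height : WithBot ℕ∞) = ringKrullDim ((Spec (CommRingCat.of T)).presheaf.stalk q) := by
      let _ : Algebra T ((Spec (CommRingCat.of T)).presheaf.stalk q) := (StructureSheaf.toStalk T q).hom.toAlgebra
      have hqp : q.asIdeal.IsPrime := q.2
      have hloc : IsLocalization.AtPrime ((Spec (CommRingCat.of T)).presheaf.stalk q) q.asIdeal :=
        StructureSheaf.IsLocalization.to_stalk T q
      exact (IsLocalization.AtPrime.ringKrullDim_eq_height q.asIdeal _).symm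
    have h8 : ringKrullDim ((Spec (CommRingCat.of T)).presheaf.stalk q) ≤
        ringKrullDim ((Spec S).presheaf.stalk (iS q)) :=
      ringKrullDim_le_of_surjective (iS.stalkMap q).hom (iS.stalkMap_surjective q)
    rw [ha] at h7
    rw [hq] at h8
    exact le_of_eq_of_le h7 h8
  · intro hb1
    rw [hxq, hyq]
    congr 1
    apply PrimeSpectrum.ext
    rw [hgo]
    by_contra hne
    have h9 := Groth.Agent.Etbc.H208.LocalSub.one_le_height R (gg q).asIdeal (fun h => hne h.symm)
    rw [hb, hb1] at h9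
    simp at h9
  · intro hb1 heq
    rw [hxq, hyq] at heq
    have h10 : gg o = gg q := iV.isClosedEmbedding.injective heq
    rw [← h10, hgo] at hb
    have : (⊥ : Ideal R).height = 0 := Ideal.height_bot
    rw [this] at hb
    have h11 : b = 0 := by exact_mod_cast hb.symm
    omega

/-- The dimension function along specializations, affine case. -/
theorem dl_specializes_aux {S : CommRingCat.{u}} (φ : CommRingCat.of V ⟶ S) [LocallyOfFiniteType (Spec.map φ)]
    (x y : Spec S) (hxy : x ⤳ y) :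
    ∃ h : ℕ, dl (φc V) (Spec.map φ) x = dl (φc V) (Spec.map φ) y + h ∧
      (h : WithBot ℕ∞) ≤ ringKrullDim ((Spec S).presheaf.stalk y) := by
  obtain ⟨h, k, h1, h2, h3, h4, h5⟩ := dim_formula V φ x y hxy
  refine ⟨h, ?_, h2⟩
  unfold dl
  rcases Nat.eq_zero_or_pos k with hk | hk
  · rw [h4 hk]
    omega
  · have hne := h5 hk
    have hsp : Spec.map φ x ⤳ Spec.map φ y := hxy.map (Spec.map φ).continuous
    have hle : (Spec.map φ x).asIdeal ≤ (Spec.map φ y).asIdeal := (PrimeSpectrum.le_iff_specializes _ _).2 hsp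
    have hy : Spec.map φ y = closedPoint V := by
      by_contra hy
      have h6 := asIdeal_eq_bot_of_ne V _ hy
      rw [h6, le_bot_iff] at hle
      exact hne (PrimeSpectrum.ext (hle.trans h6.symm))
    have hx : Spec.map φ x ≠ closedPoint V := fun h => hne (h.trans hy.symm)
    rw [φc_of_ne V _ hx, hy, φc_closedPoint]
    omega

end ring

section scheme

variable (V : Type u) [CommRing V] [IsDomain V] [IsLocalRing V] [IsPrincipalIdealRing V] {Y : Scheme.{u}}
  (f : Y ⟶ Spec (CommRingCat.of V)) [LocallyOfFiniteType f]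

/-- The dimension function along specializations. -/
theorem dl_specializes (x y : Y) (hxy : x ⤳ y) :
    ∃ h : ℕ, dl (φc V) f x = dl (φc V) f y + h ∧ (h : WithBot ℕ∞) ≤ ringKrullDim (Y.presheaf.stalk y) := by
  obtain ⟨U, hU, hyU, -⟩ := exists_isAffineOpen_mem_and_subset (x := y) (U := ⊤) trivial
  have hxU : x ∈ U := hxy.mem_open U.2 hyU
  let j := hU.fromSpec
  have hr : Set.range j = U := hU.range_fromSpec
  obtain ⟨x', hx'⟩ : x ∈ Set.range j := by rw [hr]; exact hxU
  obtain ⟨y', hy'⟩ : y ∈ Set.range j := by rw [hr]; exact hyU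
  have hj : IsOpenImmersion j := inferInstance
  have hxy' : x' ⤳ y' := by
    rw [← j.isOpenEmbedding.isInducing.specializes_iff, hx', hy']
    exact hxy
  have hm : Spec.map (Spec.preimage (j ≫ f)) = j ≫ f := Spec.map_preimage _
  have hlft : LocallyOfFiniteType (Spec.map (Spec.preimage (j ≫ f))) := by rw [hm]; infer_instance
  obtain ⟨h, h1, h2⟩ := dl_specializes_aux V (Spec.preimage (j ≫ f)) x' y' hxy'
  rw [hm, dl_comp_of_algAt _ _ _ _ (algAt_of_surjectiveOnStalks j x'),
    dl_comp_of_algAt _ _ _ _ (algAt_of_surjectiveOnStalks j y'), hx', hy'] at h1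
  refine ⟨h, h1, ?_⟩
  have h3 : ringKrullDim ((Spec Γ(Y, U)).presheaf.stalk y') = ringKrullDim (Y.presheaf.stalk (j y')) :=
    (ringKrullDim_eq_of_ringEquiv (asIso (j.stalkMap y')).commRingCatIsoToRingEquiv).symm
  rw [h3, hy'] at h2
  exact h2

/-- Near `y` the dimension function is at most `dim O_{Y,y} + δ(y)`. -/
theorem exists_nhd_dl (y : Y) (d : ℕ) (hd : ringKrullDim (Y.presheaf.stalk y) ≤ d) :
    ∃ W : Y.Opens, y ∈ W ∧ ∀ w : Y, w ∈ W → dl (φc V) f w ≤ d + dl (φc V) f y := by
  classical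
  have hN : IsLocallyNoetherian Y := LocallyOfFiniteType.isLocallyNoetherian f
  obtain ⟨U, hU, hyU, -⟩ := exists_isAffineOpen_mem_and_subset (x := y) (U := ⊤) trivial
  have hUN : IsLocallyNoetherian (U : Scheme.{u}) := inferInstance
  have hUa : IsAffine (U : Scheme.{u}) := hU
  have hUc : CompactSpace (U : Scheme.{u}) := inferInstance
  have hN2 : IsNoetherian (U : Scheme.{u}) := {}
  have hNS : TopologicalSpace.NoetherianSpace (U : Scheme.{u}) := inferInstance
  let y' : (U : Scheme.{u}) := ⟨y, hyU⟩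
  let T : Set (U : Scheme.{u}) := ⋃ C ∈ {C ∈ irreducibleComponents (U : Scheme.{u}) | y' ∉ C}, C
  have hTc : IsClosed T := by
    refine Set.Finite.isClosed_biUnion ?_ fun C hC => isClosed_of_mem_irreducibleComponents C hC.1
    exact TopologicalSpace.NoetherianSpace.finite_irreducibleComponents.subset fun C hC => hC.1
  have hyT : y' ∉ T := by
    intro h
    obtain ⟨C, hC, hyC⟩ := Set.mem_iUnion₂.1 h
    exact hC.2 hyC
  let W0 : (U : Scheme.{u}).Opens := ⟨Tᶜ, hTc.isOpen_compl⟩
  refine ⟨U.ι ''ᵁ W0, ⟨y', hyT, rfl⟩, ?_⟩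
  rintro _ ⟨w, hw, rfl⟩
  have hyC : y' ∈ irreducibleComponent w := by
    by_contra h
    exact hw (Set.mem_iUnion₂.2 ⟨irreducibleComponent w,
      ⟨irreducibleComponent_mem_irreducibleComponents w, h⟩, mem_irreducibleComponent⟩)
  obtain ⟨ξ, hξ⟩ := QuasiSober.sober (isIrreducible_irreducibleComponent (x := w)) isClosed_irreducibleComponent
  have h1 : ξ ⤳ w := hξ.specializes mem_irreducibleComponent
  have h2 : ξ ⤳ y' := hξ.specializes hyC
  obtain ⟨a, ha, -⟩ := dl_specializes V f (U.ι ξ) (U.ι w) (h1.map U.ι.continuous)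
  obtain ⟨b, hb, hb'⟩ := dl_specializes V f (U.ι ξ) (U.ι y') (h2.map U.ι.continuous)
  have hbd : b ≤ d := by
    have h3 : (b : WithBot ℕ∞) ≤ d := hb'.trans hd
    exact_mod_cast h3
  have h4 : U.ι y' = y := rfl
  rw [h4] at hb
  have h5 : dl (φc V) f (U.ι w) ≤ d + dl (φc V) f y := by omega
  exact h5

end scheme

end K337.ArtA
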