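import Groth.Agent.EtDual.K337.LocA
import Groth.Agent.EtpbcA.ArtinP1

/-!
# Affine vanishing over a discrete valuation ring: the relative affine line, special points

`not_mem_supp_Rpush_A1`: for `F` on `A¹_B` vanishing on the special fibre, `R^q p_* F` vanishes at the points
of the special fibre of `Spec B` for `q > dim F`.
-/

set_option autoImplicit false
set_option linter.unusedSectionVars false
universe u
open CategoryTheory CategoryTheory.Limits AlgebraicGeometry Opposite IsLocalRing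
open Groth.Agent Groth.Agent.EtpbcA Groth.Agent.EtpbcA.Artin

namespace K337.ArtA

open P1Charts

theorem supp_push_open {U X : Scheme.{u}} (j : U ⟶ X) [IsOpenImmersion j] (F : EtCoh.Ab U) (x : U)
    (hx : j x ∈ EtPBC.supp ((EtCoh.push j).obj F)) : x ∈ EtPBC.supp F := by
  have h1 : x ∈ EtPBC.supp ((EtCoh.pull j).obj ((EtCoh.push j).obj F)) := by
    rw [supp_pull]; exact hx
  have h2 := mem_supp_Rpush_iff_of_isPullback j j (𝟙 U) (𝟙 U) (IsKernelPair.id_of_mono j) F 0 x
  have hlim : ∀ {A B : Scheme.{u}} (f : A ⟶ B), PreservesFiniteLimits (EtCoh.push f) := fun f => by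
    have h0 : PreservesLimitsOfSize.{0, 0} (EtCoh.push f) := (EtCoh.pullPushAdj f).rightAdjoint_preservesLimits
    infer_instance
  have := hlim j
  have := hlim (𝟙 U)
  rw [supp_congr (((EtCoh.push j).rightDerivedZeroIsoSelf).app F),
    supp_congr (((EtCoh.push (𝟙 U)).rightDerivedZeroIsoSelf).app ((EtCoh.pull (𝟙 U)).obj F))] at h2
  have h3 := h2.1 hx
  have h4 : (EtCoh.push (𝟙 U)).obj ((EtCoh.pull (𝟙 U)).obj F) ≅ (EtCoh.pull (𝟙 U)).obj F :=
    (PullFLC.pushId U).app _
  rw [supp_congr h4, supp_pull] at h3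
  exact h3

theorem not_mem_supp_Rpush_A1 {ℓ : ℕ} (hℓ : ℓ.Prime) (V : Type u) [CommRing V] [IsDomain V]
    [HenselianLocalRing V] [IsPrincipalIdealRing V] [IsSepClosed (ResidueField V)] (hu : IsUnit (ℓ : V))
    (hV : ¬ IsField V) (hK : KeyB.{u} ℓ) (n : ℕ) (hQ : ∀ m, m < n → QA.{u} ℓ m) (B : CommRingCat.{u})
    (b : Spec B ⟶ Spec (CommRingCat.of V)) [LocallyOfFiniteType b]
    (y : Spec B) (hy : b y = closedPoint V)
    (F : EtCoh.Ab (AA B)) (hF : _root_.Dix.IsPrimaryTorsion ℓ F)
    (hs : ∀ x ∈ EtPBC.supp F, dl (φc V) (pr B ≫ b) x ≤ n)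
    (hs0 : ∀ x ∈ EtPBC.supp F, (pr B ≫ b) x ≠ closedPoint V) (q : ℕ) (hq : n < q) :
    y ∉ EtPBC.supp ((EtCoh.Rpush (pr B) q).obj F) := by
  obtain ⟨C, c1, c2, c3, c4, c5⟩ := Groth.Agent.S0537.result (stk V)
  have hQB := QB_Bl V C hℓ hu hV hK n hQ
  have hprop : IsProper (toB B) := Groth.Agent.Dix.ProjProper.isProper_toBase 1 (Spec B)
  have hqc : QuasiCompact (chart 0 B) := quasiCompact_chart 0 B
  have hlim : PreservesFiniteLimits (EtCoh.push (chart 0 B)) := by
    have h0 : PreservesLimitsOfSize.{0, 0} (EtCoh.push (chart 0 B)) :=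
      (EtCoh.pullPushAdj (chart 0 B)).rightAdjoint_preservesLimits
    infer_instance
  obtain ⟨Ω, _, _, ξ, hξ⟩ := exists_point y
  have hyx : ∀ x : ↥(pullback (toB B) ξ), toB B (pullback.fst (toB B) ξ x) = y := by
    intro x
    rw [← Scheme.Hom.comp_apply, pullback.condition, Scheme.Hom.comp_apply]
    have h3 : ξ (pullback.snd (toB B) ξ x) ∈ Set.range ξ := ⟨_, rfl⟩
    rw [hξ] at h3
    exact h3
  -- the higher direct images along the chart, restricted to the fibre, live at infinity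
  have hsupp : ∀ r, ∀ x ∈ EtPBC.supp ((EtCoh.pull (pullback.fst (toB B) ξ)).obj
      ((EtCoh.Rpush (chart 0 B) r).obj F)), pullback.fst (toB B) ξ x ∉ Set.range (chart 0 B) := by
    intro r x hx hx'
    rw [supp_pull] at hx
    rcases Nat.eq_zero_or_pos r with rfl | hr
    · obtain ⟨w, hw⟩ := hx'
      rw [Set.mem_preimage, ← hw, supp_congr (((EtCoh.push (chart 0 B)).rightDerivedZeroIsoSelf).app F)] at hx
      have h1 := supp_push_open (chart 0 B) F w hx
      apply hs0 w h1
      rw [Scheme.Hom.comp_apply, ← chart_toB 0 B, Scheme.Hom.comp_apply, hw, hyx x, hy]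
    · obtain ⟨r', rfl⟩ := Nat.exists_eq_succ_of_ne_zero hr.ne'
      exact not_mem_supp_Rpush_of_open (chart 0 B) F r' _ hx' hx
  have htors : ∀ r, EtCoh.IsTorsion ((EtCoh.Rpush (chart 0 B) r).obj F) := fun r =>
    Groth.Agent.Etbc.H211.PrimTors.isTorsion_of_isPrimaryTorsion hℓ.pos
      (Groth.Agent.Etbc.H211.PrimTors.isPrimaryTorsion_Rpush ℓ (chart 0 B) F hF r)
  have hpos : ∀ p r, 0 < p → y ∉ EtPBC.supp ((EtCoh.Rpush (toB B) p).obj ((EtCoh.Rpush (chart 0 B) r).obj F)) := by
    intro p r hp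
    refine not_mem_supp_of_fiber (toB B) ξ y hξ _ (htors r) p ?_
    exact Groth.Agent.S0171.result _ (pullback.snd (toB B) ξ) _
        (fun x hx => isClosed_fiber ξ 0 x (hsupp r x hx)) p hp
  have hzero : ∀ r, q ≤ r → 0 < r →
      y ∉ EtPBC.supp ((EtCoh.Rpush (toB B) 0).obj ((EtCoh.Rpush (chart 0 B) r).obj F)) := by
    intro r hqr hr0
    refine not_mem_supp_of_fiber (toB B) ξ y hξ _ (htors r) 0 ?_
    apply CdEtLeray.H_subsingleton_of_isZero
    apply isZero_of_forall
    intro x hx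
    have h2 := hsupp r x hx
    rw [supp_pull] at hx
    obtain ⟨w, hw, hwX⟩ := mem_range_other 0 B _ h2
    rw [Set.mem_preimage, ← hw] at hx
    have hy' : toB B (chart (0 + 1) B w) = y := by
      rw [hw]; exact hyx x
    rw [mem_supp_Rpush_iff_of_isPullback (chart (0 + 1) B) (chart 0 B)
        (pullback.fst (chart 0 B) (chart (0 + 1) B)) (pullback.snd (chart 0 B) (chart (0 + 1) B))
        (IsPullback.of_hasPullback _ _) F r w] at hx
    have hbo : ∀ v : AA B, v ∈ (AA B).basicOpen ((Scheme.ΓSpecIso _).inv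
        (Polynomial.X : Polynomial B)) ↔ (Polynomial.X : Polynomial B) ∉ v.asIdeal := by
      intro v
      rw [basicOpen_eq_of_affine]
      rfl
    have hlft : LocallyOfFiniteType (pr B) := locallyOfFiniteType_pr B
    refine not_mem_supp_Rpush_localization V C n hQB (Y := AA B) (pr B ≫ b)
      (pullback.snd (chart 0 B) (chart (0 + 1) B))
      ((Scheme.ΓSpecIso _).inv (Polynomial.X : Polynomial B)) ?_ w ?_ ?_
      _ (Groth.Agent.Etbc.H211.PrimTors.isPrimaryTorsion_pull ℓ _ F hF) ?_ r (by omega) hx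
    · rw [Scheme.Pullback.range_snd]
      ext v
      rw [Set.mem_preimage, chart_mem_range_iff]
      exact (hbo v).symm
    · rw [hbo, not_not]
      exact hwX
    · rw [Scheme.Hom.comp_apply, ← chart_toB (0 + 1) B, Scheme.Hom.comp_apply, hy', hy]
    · intro x' hx'
      rw [supp_pull] at hx'
      have h5 := hs _ hx'
      have h6 : pullback.snd (chart 0 B) (chart (0 + 1) B) ≫ pr B ≫ b =
          pullback.fst (chart 0 B) (chart (0 + 1) B) ≫ pr B ≫ b := by
        conv_lhs => rw [← chart_toB (0 + 1) B]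
        conv_rhs => rw [← chart_toB 0 B]
        rw [← Category.assoc, ← Category.assoc, ← Category.assoc, ← Category.assoc, ← pullback.condition]
      rw [h6, dl_comp_of_algAt (φc V) _ _ _ (algAt_of_surjectiveOnStalks _ _)]
      exact h5
  have h0 : y ∉ EtPBC.supp ((EtCoh.Rpush (toB B) q).obj ((EtCoh.push (chart 0 B)).obj F)) := by
    have h1 := hpos q 0 (by omega)
    rw [supp_congr ((EtCoh.Rpush (toB B) q).mapIso (((EtCoh.push (chart 0 B)).rightDerivedZeroIsoSelf).app F))] at h1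
    exact h1
  have h1 : ∀ p q', p + (q' + 1) = q →
      y ∉ EtPBC.supp ((EtCoh.Rpush (toB B) p).obj ((EtCoh.Rpush (chart 0 B) (q' + 1)).obj F)) := by
    intro p q' hpq
    rcases Nat.eq_zero_or_pos p with rfl | hp
    · exact hzero (q' + 1) (by omega) (by omega)
    · exact hpos p (q' + 1) hp
  have h2 := CdDiesEt.not_mem_supp_Rpush_comp (chart 0 B) (toB B) F q y h0 h1
  simp only [chart_toB] at h2
  exact h2

end K337.ArtA
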