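import Groth.Agent.EtDual.K337.Ind
import Groth.Agent.Hensel.Exist

/-!
# Affine vanishing over strictly henselian local principal ideal domains

`QA_all : KeyB ℓ → ∀ D, QA ℓ D`.
-/

set_option autoImplicit false
set_option linter.unusedSectionVars false
universe u
open CategoryTheory CategoryTheory.Limits AlgebraicGeometry Opposite IsLocalRing
open Groth.Agent Groth.Agent.EtpbcA Groth.Agent.EtpbcA.Artin

namespace K337.ArtA

open P1Charts

variable {ℓ : ℕ} (W : Type u) [CommRing W] [IsDomain W] [HenselianLocalRing W] [IsPrincipalIdealRing W]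
  [IsSepClosed (ResidueField W)]

theorem exists_SB (hℓ : ℓ.Prime) (hu : IsUnit (ℓ : W)) (hW : ¬ IsField W) (hK : KeyB.{u} ℓ) (n : ℕ)
    (hQ : ∀ m, m < n → QA.{u} ℓ m) (N : ℕ) :
    ∃ (B : CommRingCat.{u}) (β : CommRingCat.of W ⟶ B) (_ : LocallyOfFiniteType (Spec.map β))
      (e : B ⟶ CommRingCat.of (MvPolynomial (Fin N) W)), SB W ℓ n B (Spec.map β) ∧
      Function.Surjective e ∧ β ≫ e = CommRingCat.ofHom (MvPolynomial.C : W →+* MvPolynomial (Fin N) W) := by
  induction N with
  | zero =>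
    refine ⟨CommRingCat.of W, 𝟙 _, ?_, CommRingCat.ofHom MvPolynomial.C, ?_, ?_, Category.id_comp _⟩
    · infer_instance
    · rw [Spec.map_id]
      exact SB_base W n
    · exact MvPolynomial.C_surjective (Fin 0)
  | succ N ih =>
    obtain ⟨B, β, h1, e, h2, h3, h4⟩ := ih
    have h5 := SB_step W hℓ hu hW hK n hQ B (Spec.map β) h2
    have hlft : LocallyOfFiniteType (pr B) := locallyOfFiniteType_pr B
    have h6 : pr B ≫ Spec.map β = Spec.map (β ≫ CommRingCat.ofHom (Polynomial.C : B →+* Polynomial B)) :=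
      (Spec.map_comp _ _).symm
    rw [h6] at h5
    refine ⟨CommRingCat.of (Polynomial B), β ≫ CommRingCat.ofHom (Polynomial.C : B →+* Polynomial B), ?_,
      CommRingCat.ofHom (((MvPolynomial.finSuccEquiv W N).symm : _ →+* MvPolynomial (Fin (N + 1)) W).comp
        (Polynomial.mapRingHom e.hom)), h5, ?_, ?_⟩
    · rw [← h6]; infer_instance
    · exact (MvPolynomial.finSuccEquiv W N).symm.surjective.comp (Polynomial.map_surjective e.hom h3)
    · refine CommRingCat.hom_ext (RingHom.ext fun w => ?_)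
      have h7 : e.hom (β.hom w) = MvPolynomial.C w := by
        have := congrArg (fun t => t.hom w) h4
        exact this
      change (MvPolynomial.finSuccEquiv W N).symm (Polynomial.map e.hom (Polynomial.C (β.hom w))) = MvPolynomial.C w
      rw [Polynomial.map_C, h7]
      exact (MvPolynomial.finSuccEquiv W N).symm.commutes w

theorem QB_dvr (hℓ : ℓ.Prime) (hu : IsUnit (ℓ : W)) (hW : ¬ IsField W) (hK : KeyB.{u} ℓ) (n : ℕ)
    (hQ : ∀ m, m < n → QA.{u} ℓ m) : QB ℓ (B := Spec (CommRingCat.of W)) (φc W) n := by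
  intro X _ f _ F hF hs q hq
  let g : W →+* Γ(X, ⊤) := (Spec.preimage (X.isoSpec.inv ≫ f)).hom
  have hg0 : Spec.map (CommRingCat.ofHom g) = X.isoSpec.inv ≫ f := by
    rw [CommRingCat.ofHom_hom, Spec.map_preimage]
  have hg : X.toSpecΓ ≫ Spec.map (CommRingCat.ofHom g) = f := by
    rw [hg0, ← Category.assoc, Scheme.toSpecΓ_isoSpec_inv, Category.id_comp]
  have hft : g.FiniteType := by
    have h1 : LocallyOfFiniteType (Spec.map (CommRingCat.ofHom g)) := by
      rw [hg0]; infer_instance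
    exact (HasRingHomProperty.Spec_iff (P := @LocallyOfFiniteType)).1 h1
  let _ : Algebra W Γ(X, ⊤) := g.toAlgebra
  have hft' : Algebra.FiniteType W Γ(X, ⊤) := hft
  obtain ⟨N, π, hπ⟩ := Algebra.FiniteType.iff_quotient_mvPolynomial''.1 hft'
  obtain ⟨B, β, h1, e, h2, h3, h4⟩ := exists_SB W hℓ hu hW hK n hQ N
  let i : X ⟶ Spec B := X.toSpecΓ ≫ Spec.map (e ≫ CommRingCat.ofHom π.toRingHom)
  have hi : IsClosedImmersion i := by
    have h5 : IsClosedImmersion (Spec.map (e ≫ CommRingCat.ofHom π.toRingHom)) :=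
      IsClosedImmersion.spec_of_surjective _ (hπ.comp h3)
    infer_instance
  have hib : i ≫ Spec.map β = f := by
    change (X.toSpecΓ ≫ Spec.map (e ≫ CommRingCat.ofHom π.toRingHom)) ≫ Spec.map β = f
    rw [Category.assoc, ← Spec.map_comp, ← Category.assoc, h4, ← hg]
    congr 2
    ext w
    exact π.commutes w
  rw [← H_push_closed i F q]
  refine h2 _ (Groth.Agent.Etbc.H211.PrimTors.isPrimaryTorsion_push ℓ i F hF) (fun y hy => ?_) q hq
  obtain ⟨x, rfl⟩ := SuppClosed.supp_push i F hy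
  rw [mem_supp_push_iff] at hy
  have h6 := hs x hy
  rw [← hib, dl_comp_of_algAt (φc W) _ _ _ (algAt_of_surjectiveOnStalks _ _)] at h6
  exact h6

theorem QB_of_isField (hℓ : ℓ.Prime) (hW : IsField W) (n : ℕ) :
    QB ℓ (B := Spec (CommRingCat.of W)) (φc W) n := by
  have hb : Function.Bijective (residue W) := by
    refine ⟨?_, IsLocalRing.residue_surjective⟩
    rw [RingHom.injective_iff_ker_eq_bot, IsLocalRing.ker_residue]
    exact IsLocalRing.isField_iff_maximalIdeal_eq.1 hW
  let e : W ≃+* ResidueField W := RingEquiv.ofBijective (residue W) hb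
  intro X _ f _ F hF hs q hq
  have hiso : IsIso (sW W) := by
    have : IsIso (CommRingCat.ofHom (residue W)) := (ConcreteCategory.isIso_iff_bijective _).2 hb
    infer_instance
  refine QB_field hℓ.pos (ResidueField W) (fun _ => 0) n X (f ≫ inv (sW W)) F hF (fun x hx => ?_) q hq
  have h1 := hs x hx
  have h2 : nrt (f ≫ inv (sW W)) x = nrt f x :=
    nrt_comp_of_algAt_right f (inv (sW W)) x (algAt_of_surjectiveOnStalks _ _)
  unfold dl at h1
  change 0 + nrt (f ≫ inv (sW W)) x ≤ n
  omega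

theorem QA_step (hℓ : ℓ.Prime) (hK : KeyB.{u} ℓ) (n : ℕ) (hQ : ∀ m, m < n → QA.{u} ℓ m) : QA.{u} ℓ n := by
  intro W _ _ _ _ _ hu
  by_cases hW : IsField W
  · exact QB_of_isField W hℓ hW n
  · exact QB_dvr W hℓ hu hW hK n hQ

/-- Affine vanishing over strictly henselian local principal ideal domains. -/
theorem QA_all (hℓ : ℓ.Prime) (hK : KeyB.{u} ℓ) (n : ℕ) : QA.{u} ℓ n := by
  induction n using Nat.strong_induction_on with
  | _ n ih => exact QA_step hℓ hK n ih

end K337.ArtA
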