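import Groth.Agent.EtDual.K337.QAll
import Groth.Agent.EtDual.K337.Nhd
import Groth.Agent.Etbc.H216.AffOpen

/-!
# Affine vanishing on affine opens of strict localizations, over a local principal ideal domain
-/

set_option autoImplicit false
set_option linter.unusedSectionVars false
universe u
open CategoryTheory CategoryTheory.Limits AlgebraicGeometry Opposite IsLocalRing
open Groth.Agent.EtpbcA Groth.Agent.EtpbcA.Artin
open Groth.Agent.Etrest.StrictLoc Groth.Agent.EtpbcB
open Groth.Agent.EtpbcB.StrictLoc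
open Groth.Agent.Etbc.H216.StrictLocEt Groth.Agent.Etbc.H216.StrictLocVan Groth.Agent.Etbc.H216.AffOpen

namespace K337.ArtA

variable {ℓ : ℕ}

/-- Affine vanishing over the strict localization. -/
theorem subsingleton_H_of_dl (hℓ : ℓ.Prime) (hK : KeyB.{u} ℓ) (V : Type u) [CommRing V] [IsDomain V] [IsLocalRing V]
    [IsPrincipalIdealRing V] (hu : IsUnit (ℓ : V)) {X Y X' : Scheme.{u}}
    (aY : Y ⟶ Spec (CommRingCat.of V)) [LocallyOfFiniteType aY]
    (f : X ⟶ Y) [IsAffineHom f] [LocallyOfFiniteType f] {R : Type u} [CommRing R] [IsLocalRing R]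
    {p : Spec (CommRingCat.of R) ⟶ Y} (hp : IsStrictLoc p) {a : X' ⟶ X}
    {f' : X' ⟶ Spec (CommRingCat.of R)} (h : IsPullback a f' f p) (n e q : ℕ) (hq : n < e + q)
    (hy : e ≤ dl (φc V) aY (p (closedPoint R)))
    (hX : ∀ x : X, dl (φc V) (f ≫ aY) x ≤ n)
    (F : EtCoh.Ab X') (hF : _root_.Dix.IsPrimaryTorsion ℓ F) : Subsingleton (EtCoh.H X' F q) := by
  refine subsingleton_H_of_forall f hp h F q ?_
  intro U hU l hl b hba hb
  have het : AlgebraicGeometry.Etale U.hom := U.prop
  have het' : AlgebraicGeometry.Etale ((EtCoh.bc f).obj U).hom := ((EtCoh.bc f).obj U).prop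
  have hpr : IsAffineHom (BCCalc.pr f U) :=
    MorphismProperty.of_isPullback (BCCalc.isPullback_pr f U).flip inferInstance
  have hprf : LocallyOfFiniteType (BCCalc.pr f U) :=
    MorphismProperty.of_isPullback (BCCalc.isPullback_pr f U).flip inferInstance
  have hlft : LocallyOfFiniteType (U.hom ≫ aY) := inferInstance
  have hf' : IsAffineHom f' := MorphismProperty.of_isPullback h inferInstance
  have hXa : IsAffine X' := isAffine_of_isAffineHom f'
  have hUa : IsAffine ((𝟭 Scheme).obj U.left) := hU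
  have hXi : IsAffine ((EtCoh.bc f).obj U).left := isAffine_of_isAffineHom (BCCalc.pr f U)
  have hbq : QuasiCompact b := inferInstance
  refine not_mem_supp_Rpush_of_dl V hu (U.hom ≫ aY) (BCCalc.pr f U) n e q hq (l (closedPoint R)) ?_
    (fun m _ => QA_all hℓ hK m) _ (Groth.Agent.Etbc.H211.PrimTors.isPrimaryTorsion_push ℓ b F hF) ?_
  · rw [dl_comp_of_algAt _ _ _ _ (algAt_of_etale _ _)]
    have h2 : U.hom (l (closedPoint R)) = p (closedPoint R) := by rw [← hl]; rfl
    rw [h2]
    exact hy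
  · intro x _
    have h3 : BCCalc.pr f U ≫ U.hom ≫ aY = ((EtCoh.bc f).obj U).hom ≫ f ≫ aY := by
      rw [← Category.assoc, BCCalc.pr_hom, Category.assoc]
    rw [h3, dl_comp_of_algAt _ _ _ _ (algAt_of_etale _ _)]
    exact hX _

/-- Affine vanishing for an affine open of a strict localization, when the dimension function is bounded. -/
theorem subsingleton_H_affineOpen (hℓ : ℓ.Prime) (hK : KeyB.{u} ℓ) (V : Type u) [CommRing V] [IsDomain V]
    [IsLocalRing V] [IsPrincipalIdealRing V] (hu : IsUnit (ℓ : V)) {Y : Scheme.{u}}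
    (aY : Y ⟶ Spec (CommRingCat.of V)) [LocallyOfFiniteType aY] {R : Type u} [CommRing R] [IsLocalRing R]
    {p : Spec (CommRingCat.of R) ⟶ Y} (hp : IsStrictLoc p) (n e q : ℕ) (hq : n < e + q)
    (hy : e ≤ dl (φc V) aY (p (closedPoint R)))
    (hY : ∀ y : Y, dl (φc V) aY y ≤ n)
    (U : (Spec (CommRingCat.of R)).Opens) (hU : IsAffineOpen U)
    (F : EtCoh.Ab (U : Scheme.{u})) (hF : _root_.Dix.IsPrimaryTorsion ℓ F) :
    Subsingleton (EtCoh.H (U : Scheme.{u}) F q) := by
  obtain ⟨N, hN, l, hl, W, hW, rfl⟩ := exists_affineOpen_stage hp U hU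
  have het : AlgebraicGeometry.Etale N.hom := N.prop
  have hls : IsStrictLoc l := isStrictLoc_of_etale N.hom l (by rw [hl]; exact hp)
  have hWa : IsAffine W := hW
  have hWι : IsAffineHom W.ι := inferInstance
  refine subsingleton_H_of_dl hℓ hK V hu (N.hom ≫ aY) W.ι hls
    (isPullback_morphismRestrict l W) n e q hq ?_ ?_ F hF
  · rw [dl_comp_of_algAt _ _ _ _ (algAt_of_etale _ _)]
    have h2 : N.hom (l (closedPoint R)) = p (closedPoint R) := by rw [← hl]; rfl
    rw [h2]
    exact hy
  · intro x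
    rw [dl_comp_of_algAt _ _ _ _ (algAt_of_surjectiveOnStalks _ _),
      dl_comp_of_algAt _ _ _ _ (algAt_of_etale _ _)]
    exact hY _

/-- `cd_ℓ(U) ≤ dim R` for an affine open `U` of the strict localization of a scheme locally of finite type over a
local principal ideal domain. -/
theorem cohDimLEAt_affineOpen (hℓ : ℓ.Prime) (hK : KeyB.{u} ℓ) (V : Type u) [CommRing V] [IsDomain V]
    [IsLocalRing V] [IsPrincipalIdealRing V] (hu : IsUnit (ℓ : V)) {Y : Scheme.{u}}
    (g : Y ⟶ Spec (CommRingCat.of V)) [LocallyOfFiniteType g] (y : Y)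
    (R : Type u) [CommRing R] [IsLocalRing R] [Algebra (Y.presheaf.stalk y) R]
    [IsLocalHom (algebraMap (Y.presheaf.stalk y) R)] [Hensel.IsStrictHenselization (Y.presheaf.stalk y) R]
    (d : ℕ) (hd : ringKrullDim R ≤ d) (U : (Spec (CommRingCat.of R)).Opens) (hU : IsAffineOpen U) :
    _root_.Dix.CohDimLEAt (U : Scheme.{u}) ℓ d := by
  intro F hF q hq
  have hd' : ringKrullDim (Y.presheaf.stalk y) ≤ d := by
    rw [← Groth.Agent.S0541.result (Y.presheaf.stalk y) R]
    exact hd
  obtain ⟨W, hyW, hW⟩ := exists_nhd_dl V g y d hd'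
  have hp : IsStrictLoc (Hens2.specOf Y y R) := isStrictLoc_specOf Y y R
  have hcl : Hens2.specOf Y y R (IsLocalRing.closedPoint R) = y :=
    Groth.Agent.EtpbcB.PBCVan.specOf_closedPoint y R
  have hr : Set.range (Hens2.specOf Y y R) ⊆ Set.range W.ι := by
    rintro _ ⟨z, rfl⟩
    have h1 : z ⤳ IsLocalRing.closedPoint R := IsLocalRing.specializes_closedPoint (R := R) z
    have h2 : Hens2.specOf Y y R z ∈ W := by
      have h3 := h1.map (Hens2.specOf Y y R).continuous
      rw [hcl] at h3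
      exact h3.mem_open W.isOpen hyW
    rw [Scheme.Opens.range_ι]
    exact h2
  let p : Spec (CommRingCat.of R) ⟶ W := IsOpenImmersion.lift W.ι (Hens2.specOf Y y R) hr
  have hpW : p ≫ W.ι = Hens2.specOf Y y R := IsOpenImmersion.lift_fac _ _ _
  have hp' : IsStrictLoc p := isStrictLoc_of_etale W.ι p (by rw [hpW]; exact hp)
  have h2 : W.ι (p (IsLocalRing.closedPoint R)) = y := by
    have h3 : W.ι (p (IsLocalRing.closedPoint R)) = (p ≫ W.ι) (IsLocalRing.closedPoint R) := rfl
    rw [h3, hpW, hcl]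
  refine subsingleton_H_affineOpen hℓ hK V hu (W.ι ≫ g) hp' (d + dl (φc V) g y) (dl (φc V) g y) q
    (by omega) ?_ (fun w => ?_) U hU F hF
  · rw [dl_comp_of_algAt _ _ _ _ (algAt_of_surjectiveOnStalks _ _), h2]
  · rw [dl_comp_of_algAt _ _ _ _ (algAt_of_surjectiveOnStalks _ _)]
    exact hW _ w.2

end K337.ArtA
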